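import Cfsg.Agent.Lib.Lie.Suz.Sub.UAut
import Cfsg.Agent.Lib.Lie.Suz.MinDeg
import Cfsg.Agent.Lib.Char.Orthogonality
import Cfsg.Agent.Lib.Char.Scalar
import Cfsg.Agent.Lib.Char.Degree

/-!
# A character of degree `r` of the translations and its sum over the torus
-/

set_option autoImplicit false

namespace CfsgLib.Lie.Suz

open Cfsg CfsgLib.Char
open scoped MatrixGroups ComplexConjugate

/-- a central element multiplies an irreducible character by a scalar -/
theorem irr_central_scalar {G : Type*} [Group G] [Finite G] {χ : G → ℂ} (h : IsIrrCharacter G χ) {z : G}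
    (hz : z ∈ Subgroup.center G) : ∃ c : ℂ, ∀ g, χ (g * z) = c * χ g := by
  obtain ⟨n, ρ, hρ, rfl⟩ := h
  haveI := hρ
  obtain ⟨c, hc⟩ := exists_scalar_of_mem_center ρ hz
  refine ⟨c, fun g => ?_⟩
  show LinearMap.trace ℂ _ (ρ (g * z)) = c * LinearMap.trace ℂ _ (ρ g)
  rw [map_mul, hc, ← Module.End.one_eq_id, mul_smul_comm, mul_one, map_smul, smul_eq_mul]

/-- a sum of fourth roots of unity is a Gaussian integer -/
theorem sum_fourth_roots {ι : Type*} (s : Finset ι) (μ : ι → ℂ) (h : ∀ i ∈ s, μ i ^ 4 = 1) :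
    ∃ a n : ℤ, ∑ i ∈ s, μ i = (a : ℂ) + (n : ℂ) * Complex.I := by
  classical
  induction s using Finset.induction_on with
  | empty => exact ⟨0, 0, by simp⟩
  | insert i s hi ih =>
    obtain ⟨a, n, e⟩ := ih fun j hj => h j (Finset.mem_insert_of_mem hj)
    rw [Finset.sum_insert hi, e]
    have h4 := h i (Finset.mem_insert_self i s)
    have h1 : (μ i - 1) * (μ i + 1) * ((μ i - Complex.I) * (μ i + Complex.I)) = 0 := by
      linear_combination h4 + (1 - μ i ^ 2) * Complex.I_mul_I
    rcases mul_eq_zero.1 h1 with h2 | h2 <;> rcases mul_eq_zero.1 h2 with h3 | h3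
    · exact ⟨a + 1, n, by push_cast; linear_combination h3⟩
    · exact ⟨a - 1, n, by push_cast; linear_combination h3⟩
    · exact ⟨a, n + 1, by push_cast; linear_combination h3⟩
    · exact ⟨a, n - 1, by push_cast; linear_combination h3⟩

/-- the only way to write an odd power of two as a square of a power of two and a square -/
theorem two_squares {m k : ℕ} {n : ℤ} (h : ((2 : ℤ) ^ k) ^ 2 + n ^ 2 = 2 ^ (2 * m + 1)) :
    k = m ∧ (n = 2 ^ m ∨ n = -(2 ^ m)) := by
  have hk : k ≤ m := by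
    by_contra hc
    have h1 : (2 : ℤ) ^ (2 * m + 2) ≤ ((2 : ℤ) ^ k) ^ 2 := by
      rw [← pow_mul]
      exact pow_le_pow_right₀ (by norm_num) (by omega)
    have h2 : (2 : ℤ) ^ (2 * m + 1) < 2 ^ (2 * m + 2) := pow_lt_pow_right₀ (by norm_num) (by omega)
    nlinarith [sq_nonneg n]
  obtain ⟨j, rfl⟩ := Nat.exists_eq_add_of_le hk
  have h1 : n ^ 2 = ((2 : ℤ) ^ k) ^ 2 * (2 ^ (2 * j + 1) - 1) := by
    rw [mul_sub, mul_one, ← pow_mul, ← pow_add]
    have e : k * 2 + (2 * j + 1) = 2 * (k + j) + 1 := by ring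
    rw [e]
    linear_combination h
  obtain ⟨e, rfl⟩ := (Int.pow_dvd_pow_iff two_ne_zero).1 (Dvd.intro _ h1.symm)
  have h2 : e ^ 2 = 2 ^ (2 * j + 1) - 1 := by
    rw [mul_pow] at h1
    exact mul_left_cancel₀ (by positivity) h1
  rcases Nat.eq_zero_or_pos j with rfl | hj
  · refine ⟨(add_zero k).symm, ?_⟩
    have h3 : e ^ 2 = 1 := by rw [h2]; norm_num
    rcases sq_eq_one_iff.1 h3 with rfl | rfl
    · left; simp
    · right; simp
  · exfalso
    have h4 : ((e ^ 2 : ℤ) : ZMod 4) = -1 := by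
      rw [h2, show 2 * j + 1 = 2 + (2 * j - 1) by omega, pow_add]
      push_cast
      rw [show (4 : ZMod 4) = 0 from rfl] at *
      norm_num
    push_cast at h4
    generalize (e : ZMod 4) = x at h4
    revert x
    decide

variable {F : Type*} [Field F] [Fintype F] {m : ℕ}

open Classical in
/-- the sign attached to the additive group -/
noncomputable def eps (m : ℕ) (x : F) : ℂ := if ∃ c : F, th m c + c = x then 1 else -1

variable (hm : 1 ≤ m) (hF : Fintype.card F = 2 ^ (2 * m + 1))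

include hm hF

omit hm hF in
theorem eps_cases (x : F) : eps m x = 1 ∨ eps m x = -1 := by
  unfold eps; split_ifs <;> simp

omit hm hF in
theorem eps_image (c : F) : eps m (th m c + c) = 1 := if_pos ⟨c, rfl⟩

omit hm in
theorem th_add_self_zero {s : F} : th m s + s = 0 ↔ s = 0 ∨ s = 1 := by
  have hS := isSuzField hF
  constructor
  · intro h
    have h1 : th m s = s := by rw [eq_neg_of_add_eq_zero_left h, neg_eq hS]
    have h2 : s * s = s * 1 := by rw [← sq, ← th_th hS, h1, h1, mul_one]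
    rcases eq_or_ne s 0 with e | e
    · exact Or.inl e
    · exact Or.inr (mul_left_cancel₀ e h2)
  · rintro (rfl | rfl)
    · rw [th_zero hS, add_zero]
    · rw [th_one hS, add_self hS]

omit hm in
theorem one_not_image : ¬ ∃ c : F, th m c + c = 1 := by
  rintro ⟨c, hc⟩
  have hS := isSuzField hF
  have h1 : th m c = c + 1 := by linear_combination hc - c * two_eq_zero hS
  have h2 := congrArg (th m) h1
  rw [th_th hS, th_add hS, th_one hS, h1] at h2
  have h3 : c * c = c * 1 := by linear_combination h2 + two_eq_zero hS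
  rcases eq_or_ne c 0 with e | e
  · subst e; rw [th_zero hS, zero_add] at hc; exact zero_ne_one hc
  · obtain rfl := mul_left_cancel₀ e h3
    rw [th_one hS, add_self hS] at hc
    exact zero_ne_one hc

omit hm in
theorem eps_one : eps m (1 : F) = -1 := if_neg (one_not_image hF)

omit hm in
theorem eps_add (a b : F) : eps m (a + b) = eps m a * eps m b := by
  classical
  have hS := isSuzField hF
  let f : F →+ F := AddMonoidHom.mk' (fun s => th m s + s) fun s t => by rw [th_add hS]; ring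
  have hk : Nat.card f.ker = 2 := by
    show Nat.card ↥(f.ker : Set F) = 2
    have : (f.ker : Set F) = {0, 1} := by
      ext s
      exact th_add_self_zero hF
    rw [this, Nat.card_coe_set_eq, Set.ncard_pair zero_ne_one]
  have hidx : f.range.index = 2 := by
    have h1 := AddSubgroup.card_mul_index f.ker
    rw [AddSubgroup.index_ker, hk] at h1
    have h2 := AddSubgroup.card_mul_index f.range
    have h3 : 0 < Nat.card f.range := Nat.card_pos
    apply Nat.eq_of_mul_eq_mul_left h3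
    omega
  have h := AddSubgroup.add_mem_iff_of_index_two hidx (a := a) (b := b)
  have e : ∀ x : F, eps m x = if x ∈ f.range then 1 else -1 := fun x => by
    unfold eps; exact if_congr Iff.rfl rfl rfl
  rw [e, e, e]
  by_cases ha : a ∈ f.range <;> by_cases hb : b ∈ f.range <;> simp [h, ha, hb]

omit hm in
theorem eps_sign : Sign (eps m : F → ℂ) := by
  refine ⟨eps_add hF, fun a => ?_, 1, ?_⟩
  · rcases eps_cases (m := m) a with e | e <;> rw [e] <;> norm_num
  · rw [eps_one hF]; norm_num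

omit hm in
theorem sum_eps_ne_zero [DecidableEq F] : ∑ x ∈ Finset.univ.erase (0 : F), eps m x = -1 := by
  rw [Finset.sum_erase_eq_sub (Finset.mem_univ _), (eps_sign hF).sum_eq_zero, (eps_sign hF).map_zero, zero_sub]

omit hm in
theorem tu_zero : tu hF 0 0 = (1 : ↥(U hF : Subgroup (Cfsg.Sz F m))) := Subtype.ext (TS_zero' hF)

omit hm in
theorem tu_center (b : F) : tu hF 0 b ∈ Subgroup.center ↥(U hF : Subgroup (Cfsg.Sz F m)) := by
  rw [Subgroup.mem_center_iff]
  intro u
  obtain ⟨a, c, rfl⟩ := tu_surj hF u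
  simp only [tu_mul, th_zero (isSuzField hF)]
  congr 1 <;> ring

/-- the translations as pairs -/
noncomputable def uEquiv : F × F ≃ ↥(U hF : Subgroup (Cfsg.Sz F m)) :=
  Equiv.ofBijective (fun p => tu hF p.1 p.2) ⟨fun p q h => Prod.ext (tu_inj hF h).1 (tu_inj hF h).2,
    fun u => by obtain ⟨a, b, rfl⟩ := tu_surj hF u; exact ⟨(a, b), rfl⟩⟩

omit hm in
theorem sum_U [Fintype ↥(U hF : Subgroup (Cfsg.Sz F m))] (f : ↥(U hF : Subgroup (Cfsg.Sz F m)) → ℂ) :
    ∑ u, f u = ∑ a, ∑ b, f (tu hF a b) := by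
  rw [← (uEquiv hF).sum_comp, Fintype.sum_prod_type]
  rfl

/-- the irreducible character lying over the sign -/
theorem exists_chi0 : ∃ (χ : ↥(U hF : Subgroup (Cfsg.Sz F m)) → ℂ) (σ : ℤ), IsIrrCharacter _ χ ∧
    (σ = 1 ∨ σ = -1) ∧ (∀ b, χ (tu hF 0 b) = (2 : ℂ) ^ m * eps m b) ∧
    (∀ a b, a ≠ 0 → a ≠ 1 → χ (tu hF a b) = 0) ∧
    (∀ b, χ (tu hF 1 b) = (σ : ℂ) * 2 ^ m * Complex.I * eps m b) := by
  classical
  have hS := isSuzField hF
  haveI : Fintype ↥(U hF : Subgroup (Cfsg.Sz F m)) := Fintype.ofFinite _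
  haveI : Fintype (IrrCharacter ↥(U hF : Subgroup (Cfsg.Sz F m))) := Fintype.ofFinite _
  let f : ↥(U hF : Subgroup (Cfsg.Sz F m)) → ℂ := fun u =>
    if ((uEquiv hF).symm u).1 = 0 then eps m ((uEquiv hF).symm u).2 else 0
  have hftu : ∀ a b, f (tu hF a b) = if a = 0 then eps m b else 0 := fun a b => by
    show (if ((uEquiv hF).symm (uEquiv hF (a, b))).1 = 0 then eps m ((uEquiv hF).symm (uEquiv hF (a, b))).2
      else 0) = _
    rw [Equiv.symm_apply_apply]
  have hcf : IsClassFunction _ f := by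
    intro g h
    obtain ⟨a, b, rfl⟩ := tu_surj hF g
    by_cases ha : a = 0
    · subst ha
      rw [Subgroup.mem_center_iff.1 (tu_center hF b) h, mul_inv_cancel_right]
    · obtain ⟨c, e, rfl⟩ := tu_surj hF h
      obtain ⟨a', b', he⟩ := tu_surj hF (tu hF c e * tu hF a b * (tu hF c e)⁻¹)
      have h1 := congrArg (fst hF) he
      have h2 := congrArg (fst hF) (mul_inv_cancel (tu hF c e))
      rw [fst_mul, fst_mul, fst_tu, fst_tu, fst_tu] at h1
      rw [fst_mul, fst_tu, ← tu_zero hF, fst_tu] at h2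
      have ha' : a' = a := by linear_combination h2 - h1
      rw [he, hftu, hftu, ha', if_neg ha, if_neg ha]
  obtain ⟨χ, hχ⟩ : ∃ χ : IrrCharacter ↥(U hF : Subgroup (Cfsg.Sz F m)), classInner f (χ : _ → ℂ) ≠ 0 := by
    by_contra hc
    push Not at hc
    have h0 := congrFun (classFun_eq_zero_of_perp hcf hc) (tu hF 0 0)
    rw [hftu, if_pos rfl, (eps_sign hF).map_zero] at h0
    exact one_ne_zero h0
  obtain ⟨χ, hirr⟩ := χ
  obtain ⟨d, hd, hd1⟩ := isIrrCharacter_degree hirr
  have hd0 : (d : ℂ) ≠ 0 := Nat.cast_ne_zero.2 hd.ne'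
  choose c hc using fun b => irr_central_scalar hirr (tu_center hF b)
  have hc0 : ∀ b, χ (tu hF 0 b) = c b * d := fun b => by rw [← hd1, ← hc b 1, one_mul]
  have hcadd : ∀ b b', c (b + b') = c b * c b' := fun b b' => by
    have e : tu hF 0 b * tu hF 0 b' = tu hF 0 (b + b') := by
      rw [tu_mul, mul_zero, add_zero, add_zero]
    have := hc b' (tu hF 0 b)
    rw [e, hc0, hc0] at this
    apply mul_right_cancel₀ hd0
    linear_combination this
  have hcone : c 0 = 1 := by
    have := hc0 0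
    rw [tu_zero hF, hd1] at this
    apply mul_right_cancel₀ hd0
    rw [← this, one_mul]
  have hcsq : ∀ b, c b * c b = 1 := fun b => by rw [← hcadd, add_self hS, hcone]
  have hceps : ∀ b, c b = eps m b := by
    by_contra hne
    push Not at hne
    obtain ⟨b0, hb0⟩ := hne
    apply hχ
    rw [classInner, sum_U hF, Finset.sum_eq_single 0 ?_ (fun h => absurd (Finset.mem_univ _) h)]
    · have hconj : ∀ b, conj (c b) = c b := fun b => by
        rcases mul_self_eq_one_iff.1 (hcsq b) with e | e <;> rw [e] <;> simp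
      have hν : ∑ b, eps m b * c b = 0 := by
        refine Sign.sum_eq_zero (ε := fun b => eps m b * c b) ⟨fun a b => ?_, fun a => ?_, b0, fun e => hb0 ?_⟩
        · rw [eps_add hF, hcadd]; ring
        · linear_combination (c a * c a) * (eps_sign hF).sq a + hcsq a
        · linear_combination eps m b0 * e - c b0 * (eps_sign hF).sq b0
      rw [mul_eq_zero]
      right
      simp only [hftu, if_true, hc0, map_mul, hconj, map_natCast, ← mul_assoc, ← Finset.sum_mul, hν, zero_mul]
    · intro a _ ha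
      exact Finset.sum_eq_zero fun b _ => by rw [hftu, if_neg ha, zero_mul]
  simp only [hceps] at hc hc0 hcsq
  have hmulc : ∀ a b, χ (tu hF a b) = eps m b * χ (tu hF a 0) := fun a b => by
    rw [← hc b (tu hF a 0)]
    congr 1
    rw [tu_mul, add_zero, mul_zero, add_zero, zero_add]
  have hzero : ∀ a b, a ≠ 0 → a ≠ 1 → χ (tu hF a b) = 0 := by
    intro a b ha0 ha1
    have hcl := isClassFunction_of_isCharacter (isCharacter_of_isIrr hirr)
    by_contra hne
    refine ha1 (radical_unique hm hF (eps_sign hF) ha0 one_ne_zero (fun x => ?_) fun x => ?_)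
    · have e : tu hF x 0 * tu hF a b * (tu hF x 0)⁻¹ = tu hF a b * tu hF 0 (th m x * a + th m a * x) := by
        rw [mul_inv_eq_iff_eq_mul, tu_mul, tu_mul, tu_mul]
        congr 1
        · ring
        · rw [th_add hS, th_zero hS]
          linear_combination (-(th m a * x)) * two_eq_zero hS
      have h1 := hcl (tu hF a b) (tu hF x 0)
      rw [e, hc] at h1
      exact mul_right_cancel₀ hne (by rw [h1, one_mul])
    · rw [mul_one, th_one hS, one_mul]
      exact eps_image x
  obtain ⟨x0, n, hgau⟩ : ∃ a n : ℤ, χ (tu hF 1 0) = (a : ℂ) + (n : ℂ) * Complex.I := by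
    obtain ⟨N, ρ, -, hρ⟩ := hirr
    obtain ⟨bs, μ, hμ, -, hch⟩ := exists_eigen_data ρ (tu hF 1 0)
    have h4 : tu hF 1 0 ^ 4 = 1 := by
      have h2 : tu hF 1 0 * tu hF 1 0 = tu hF 0 1 := by
        rw [tu_mul, add_self hS, add_self hS, th_one hS, mul_one, zero_add]
      calc tu hF 1 0 ^ 4 = (tu hF 1 0 * tu hF 1 0) * (tu hF 1 0 * tu hF 1 0) := by simp [pow_succ, mul_assoc]
        _ = 1 := by rw [h2, tu_mul, add_zero, mul_zero, add_zero, add_self hS, tu_zero hF]
    obtain ⟨k, hk⟩ := orderOf_dvd_of_pow_eq_one h4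
    obtain ⟨a, n, e⟩ := sum_fourth_roots Finset.univ μ fun i _ => by rw [hk, pow_mul, hμ, one_pow]
    exact ⟨a, n, by rw [← hρ, ← e, ← pow_one (tu hF 1 0), hch 1]; simp⟩
  have hx0 : x0 = 0 := by
    have hinv : (tu hF 1 0)⁻¹ = tu hF 1 1 := by
      rw [inv_eq_iff_mul_eq_one, tu_mul, ← tu_zero hF]
      congr 1
      · exact add_self hS 1
      · rw [th_one hS, mul_one, zero_add, add_self hS]
    have h1 := isCharacter_inv (isCharacter_of_isIrr hirr) (tu hF 1 0)
    rw [hinv, hmulc 1 1, eps_one hF, hgau] at h1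
    have h2 := congrArg Complex.re h1
    simp at h2
    have h3 : (x0 : ℝ) = 0 := by linarith
    exact_mod_cast h3
  subst hx0
  simp only [Int.cast_zero, zero_add] at hgau
  have hnorm : (Fintype.card F : ℂ) * ((d : ℂ) ^ 2 + (n : ℂ) ^ 2) = (Fintype.card F : ℂ) ^ 2 := by
    have h1 : classInner χ χ = 1 := classInner_irr_self ⟨χ, hirr⟩
    rw [classInner, inv_mul_eq_iff_eq_mul₀ card_ne_zero', mul_one, card_U hF, sum_U hF,
      ← Finset.sum_subset (Finset.subset_univ ({0, 1} : Finset F)) (fun a _ ha => Finset.sum_eq_zero fun b _ => by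
        simp only [Finset.mem_insert, Finset.mem_singleton, not_or] at ha
        rw [hzero a b ha.1 ha.2, zero_mul]), Finset.sum_pair zero_ne_one] at h1
    push_cast at h1
    rw [← h1]
    have he : ∀ b : F, eps m b * conj (eps m b) = 1 := fun b => by
      rcases eps_cases (m := m) b with e | e <;> rw [e] <;> simp
    have e0 : ∀ b, χ (tu hF 0 b) * conj (χ (tu hF 0 b)) = (d : ℂ) ^ 2 := fun b => by
      rw [hc0, map_mul, map_natCast]; linear_combination ((d : ℂ) ^ 2) * he b
    have e1 : ∀ b, χ (tu hF 1 b) * conj (χ (tu hF 1 b)) = (n : ℂ) ^ 2 := fun b => by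
      rw [hmulc, hgau, map_mul, map_mul, map_intCast, Complex.conj_I]
      linear_combination ((n : ℂ) ^ 2) * he b - ((n : ℂ) ^ 2 * (eps m b * conj (eps m b))) * Complex.I_mul_I
    simp only [e0, e1]
    simp only [Finset.sum_const, Finset.card_univ, nsmul_eq_mul]
    ring
  obtain ⟨k, -, hk⟩ : ∃ k ≤ (2 * m + 1) * 2, d = 2 ^ k := by
    refine (Nat.dvd_prime_pow Nat.prime_two).1 ?_
    have h := degree_dvd_index_abelian _ (⊥ : Subgroup ↥(U hF : Subgroup (Cfsg.Sz F m)))
      (fun a ha b hb => by rw [Subgroup.mem_bot.1 ha, Subgroup.mem_bot.1 hb]) χ hirr d hd1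
    rwa [Subgroup.index_bot, card_U hF, hF, ← pow_mul] at h
  have hint : ((2 : ℤ) ^ k) ^ 2 + n ^ 2 = 2 ^ (2 * m + 1) := by
    have hq0 : (Fintype.card F : ℂ) ≠ 0 := Nat.cast_ne_zero.2 Fintype.card_ne_zero
    rw [sq (Fintype.card F : ℂ)] at hnorm
    have h1 := mul_left_cancel₀ hq0 hnorm
    rw [hF, hk] at h1
    push_cast at h1
    exact_mod_cast h1
  obtain ⟨rfl, hn⟩ := two_squares hint
  have hdC : (d : ℂ) = 2 ^ k := by rw [hk]; norm_num
  have key : ∀ σ : ℤ, n = σ * 2 ^ k → ∀ b, χ (tu hF 1 b) = (σ : ℂ) * 2 ^ k * Complex.I * eps k b := by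
    rintro σ rfl b
    rw [hmulc, hgau]
    push_cast
    ring
  rcases hn with e | e
  · exact ⟨χ, 1, hirr, Or.inl rfl, fun b => by rw [hc0, hdC, mul_comm], hzero, key 1 (by rw [e, one_mul])⟩
  · exact ⟨χ, -1, hirr, Or.inr rfl, fun b => by rw [hc0, hdC, mul_comm], hzero, key (-1) (by rw [e, neg_one_mul])⟩

/-- conjugation of the translations by a torus element -/
noncomputable def tConj (k : Fˣ) : ↥(U hF : Subgroup (Cfsg.Sz F m)) →* ↥(U hF : Subgroup (Cfsg.Sz F m)) :=
  MonoidHom.mk' (fun u => ⟨HS hF k * (u : Cfsg.Sz F m) * (HS hF k)⁻¹, by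
    obtain ⟨a, b, hu⟩ := U_coord hF u
    rw [hu, H_conj_T hF]
    exact TS_mem_U hF _ _⟩) fun u v => Subtype.ext (by
    show HS hF k * ((u : Cfsg.Sz F m) * v) * (HS hF k)⁻¹ = HS hF k * u * (HS hF k)⁻¹ * (HS hF k * v * (HS hF k)⁻¹)
    group)

omit hm in
theorem tConj_tu (k : Fˣ) (a b : F) :
    tConj hF k (tu hF a b) = tu hF ((k : F) * a) (th m (k : F) * k * b) := Subtype.ext (H_conj_T hF k a b)

/-- the coordinate deciding the sign of an element of order four -/
noncomputable def sgnF (m : ℕ) (a b : F) : ℂ := eps m (th m a⁻¹ * a⁻¹ * b)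

/-- the sum of the conjugates under the torus -/
theorem exists_wchar : ∃ (w : ↥(U hF : Subgroup (Cfsg.Sz F m)) → ℂ) (σ : ℤ), IsCharacter _ w ∧
    (σ = 1 ∨ σ = -1) ∧ w 1 = (2 : ℂ) ^ m * ((Fintype.card F : ℂ) - 1) ∧
    (∀ b, b ≠ 0 → w (tu hF 0 b) = -(2 : ℂ) ^ m) ∧
    (∀ a b, a ≠ 0 → w (tu hF a b) = (σ : ℂ) * 2 ^ m * Complex.I * sgnF m a b) := by
  classical
  have hS := isSuzField hF
  obtain ⟨χ, σ, hirr, hσ, h0, hz, h1⟩ := exists_chi0 hm hF
  refine ⟨∑ k : Fˣ, fun u => χ (tConj hF k u), σ,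
    isCharacter_sum _ _ fun k _ => isCharacter_comp (isCharacter_of_isIrr hirr) (tConj hF k), hσ, ?_, ?_, ?_⟩
  · have hone : χ 1 = (2 : ℂ) ^ m := by rw [← tu_zero hF, h0, (eps_sign hF).map_zero, mul_one]
    simp only [Finset.sum_apply, map_one, hone, Finset.sum_const, Finset.card_univ, nsmul_eq_mul,
      Fintype.card_units, Nat.cast_sub Fintype.card_pos, Nat.cast_one]
    ring
  · intro b hb
    simp only [Finset.sum_apply, tConj_tu, mul_zero, h0, ← Finset.mul_sum]
    have hinj : Function.Injective fun k : Fˣ => th m (k : F) * k * b :=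
      fun x y e => kth_injective hS (mul_right_cancel₀ hb e)
    have himg : (Finset.univ : Finset Fˣ).image (fun k : Fˣ => th m (k : F) * k * b) = Finset.univ.erase 0 := by
      refine Finset.eq_of_subset_of_card_le ?_ ?_
      · intro x hx
        obtain ⟨k, -, rfl⟩ := Finset.mem_image.1 hx
        exact Finset.mem_erase.2 ⟨mul_ne_zero (mul_ne_zero (fun e => k.ne_zero (th_eq_zero hS e)) k.ne_zero) hb,
          Finset.mem_univ _⟩
      · rw [Finset.card_image_of_injective _ hinj, Finset.card_erase_of_mem (Finset.mem_univ _),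
          Finset.card_univ, Finset.card_univ, Fintype.card_units]
    have := sum_eps_ne_zero hF (m := m)
    rw [← himg, Finset.sum_image hinj.injOn] at this
    rw [this, mul_neg_one]
  · intro a b ha
    simp only [Finset.sum_apply, tConj_tu]
    rw [Finset.sum_eq_single (Units.mk0 a⁻¹ (inv_ne_zero ha)) ?_ (fun h => absurd (Finset.mem_univ _) h)]
    · rw [Units.val_mk0, inv_mul_cancel₀ ha, h1]
      rfl
    · intro k _ hk
      refine hz _ _ (mul_ne_zero k.ne_zero ha) fun e => hk (Units.ext ?_)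
      rw [Units.val_mk0]
      exact eq_inv_of_mul_eq_one_left e

end CfsgLib.Lie.Suz
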