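import Cfsg.Agent.Lib.Lie.Suz.Char.Family
import Cfsg.Agent.Lib.Lie.Suz.Sub.Solv

/-!
# Sums over the linear characters of a torus
-/

set_option autoImplicit false
set_option linter.unusedSectionVars false

namespace CfsgLib.Lie.Suz

open Cfsg CfsgLib.Char
open scoped MatrixGroups ComplexConjugate

variable {F : Type*} [Field F] [Fintype F] {m : ℕ}

/-- the orbit sum of a linear character -/
noncomputable def orbS {C : Subgroup (Cfsg.Sz F m)} [Fintype ↥(Subgroup.normalizer (C : Set (Cfsg.Sz F m)))]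
    (d : ℕ) (ψ : ↥C →* ℂˣ) (x : ↥C) : ℂ := (d : ℂ)⁻¹ * ∑ y, ((ψ.comp (cN C y)) x : ℂ)

variable (hm : 1 ≤ m) (hF : Fintype.card F = 2 ^ (2 * m + 1))
variable {d : ℕ} {C : Subgroup (Cfsg.Sz F m)} (hd : d ∈ threeD m) (hC : C ∈ Tset F m d)

include hm hF hd hC

variable [Fintype (↥C →* ℂˣ)]

/-- the sum over the dual -/
theorem sum_dual [DecidableEq ↥C] (a : ↥C) : ∑ ψ : ↥C →* ℂˣ, (ψ a : ℂ) = if a = 1 then (d : ℂ) else 0 := by
  split_ifs with h
  · subst h
    simp only [map_one, Units.val_one, Finset.sum_const, Finset.card_univ, nsmul_eq_mul, mul_one,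
      ← Nat.card_eq_fintype_card, card_lin hm hF hd hC]
  · haveI := Tset_cyclic hm hF hd hC
    letI : CommGroup ↥C := IsCyclic.commGroup
    haveI : Finite ↥C := inferInstance
    obtain ⟨φ, hφ⟩ := CommGroup.exists_apply_ne_one_of_hasEnoughRootsOfUnity ↥C ℂ h
    have e : ∑ ψ : ↥C →* ℂˣ, (ψ a : ℂ) = (φ a : ℂ) * ∑ ψ : ↥C →* ℂˣ, (ψ a : ℂ) := by
      rw [Finset.mul_sum]
      exact (Fintype.sum_equiv (Equiv.mulLeft φ) (fun ψ => (φ a : ℂ) * (ψ a : ℂ)) (fun ψ => (ψ a : ℂ))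
        fun ψ => by simp).symm
    have h1 : ((φ a : ℂ) - 1) * ∑ ψ : ↥C →* ℂˣ, (ψ a : ℂ) = 0 := by rw [sub_mul, one_mul, ← e, sub_self]
    exact (mul_eq_zero.1 h1).resolve_left (sub_ne_zero.2 (Units.val_eq_one.not.2 hφ))

variable [Fintype ↥(Subgroup.normalizer (C : Set (Cfsg.Sz F m)))]

theorem orbS_one (x : ↥C) : orbS d (1 : ↥C →* ℂˣ) x = (nOf m d : ℕ) := by
  have := Tset_cast_ne hm hF hd hC
  simp only [orbS, MonoidHom.one_comp, MonoidHom.one_apply, Units.val_one, Finset.sum_const, Finset.card_univ,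
    nsmul_eq_mul, mul_one, ← Nat.card_eq_fintype_card, card_normalizer hm hF hd hC, Nat.cast_mul]
  field_simp

theorem conj_orbS (ψ : ↥C →* ℂˣ) (x : ↥C) : conj (orbS d ψ x) = orbS d ψ x⁻¹ := by
  simp only [orbS, map_mul, map_inv₀, map_natCast, map_sum, conj_lin, map_inv]

theorem norm_orbS_le (ψ : ↥C →* ℂˣ) (x : ↥C) : ‖orbS d ψ x‖ ≤ (nOf m d : ℕ) := by
  have hd0 := Tset_cast_ne hm hF hd hC
  have hd' : (0 : ℝ) < d := Nat.cast_pos.2 (Nat.pos_of_ne_zero (Nat.cast_ne_zero.1 hd0))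
  have h1 : ∀ y, ‖((ψ.comp (cN C y)) x : ℂ)‖ = 1 := fun y =>
    norm_eq_one_of_pow_eq_one' (orderOf_pos x).ne' (by
      rw [← Units.val_pow_eq_pow_val, ← map_pow, pow_orderOf_eq_one, map_one, Units.val_one])
  rw [orbS, norm_mul, norm_inv, Complex.norm_natCast, inv_mul_le_iff₀ hd']
  refine (norm_sum_le _ _).trans (le_of_eq ?_)
  simp only [h1, Finset.sum_const, Finset.card_univ, nsmul_eq_mul, mul_one, ← Nat.card_eq_fintype_card,
    card_normalizer hm hF hd hC, Nat.cast_mul]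
  ring

/-- the scalar product of two columns -/
theorem sum_orbS_mul [DecidableEq ↥C] (x x' : ↥C) :
    ∑ ψ : ↥C →* ℂˣ, orbS d ψ x * orbS d ψ x' =
      (d : ℂ)⁻¹ * (Finset.univ.filter fun p : ↥(Subgroup.normalizer (C : Set (Cfsg.Sz F m))) ×
        ↥(Subgroup.normalizer (C : Set (Cfsg.Sz F m))) => cN C p.1 x * cN C p.2 x' = 1).card := by
  have hd0 := Tset_cast_ne hm hF hd hC
  calc ∑ ψ : ↥C →* ℂˣ, orbS d ψ x * orbS d ψ x'
      = (d : ℂ)⁻¹ * ((d : ℂ)⁻¹ * ∑ p : ↥(Subgroup.normalizer (C : Set (Cfsg.Sz F m))) ×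
          ↥(Subgroup.normalizer (C : Set (Cfsg.Sz F m))), ∑ ψ : ↥C →* ℂˣ, ((ψ (cN C p.1 x * cN C p.2 x')) : ℂ)) := by
        rw [Finset.sum_comm, Finset.mul_sum, Finset.mul_sum]
        refine Finset.sum_congr rfl fun ψ _ => ?_
        rw [Fintype.sum_prod_type]
        simp only [orbS, MonoidHom.comp_apply, map_mul, Units.val_mul, Finset.sum_mul, Finset.mul_sum]
        rw [Finset.sum_comm]
        exact Finset.sum_congr rfl fun y _ => Finset.sum_congr rfl fun z _ => by ring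
    _ = _ := by
      simp only [sum_dual hm hF hd hC]
      rw [← Finset.sum_filter, Finset.sum_const, nsmul_eq_mul]
      field_simp

theorem cN_cN (y z : ↥(Subgroup.normalizer (C : Set (Cfsg.Sz F m)))) (x : ↥C) :
    cN C y (cN C z x) = cN C (z * y) x := Subtype.ext (by
  show (y : Cfsg.Sz F m)⁻¹ * ((z : Cfsg.Sz F m)⁻¹ * x * z) * y =
    ((z : Cfsg.Sz F m) * y)⁻¹ * x * ((z : Cfsg.Sz F m) * y)
  group)

theorem cN_stab {x : ↥C} (hx : x ≠ 1) (y : ↥(Subgroup.normalizer (C : Set (Cfsg.Sz F m)))) :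
    cN C y x = x ↔ (y : Cfsg.Sz F m) ∈ C := by
  have hx1 : (x : Cfsg.Sz F m) ≠ 1 := fun e => hx (Subtype.ext e)
  constructor
  · intro h
    have e : (y : Cfsg.Sz F m)⁻¹ * x * y = x := congrArg Subtype.val h
    refine (SetLike.ext_iff.1 (Tset_centralizer hm hF hd hC x.2 hx1).2 _).1
      (Subgroup.mem_centralizer_singleton_iff.2 ?_)
    calc (y : Cfsg.Sz F m) * x = y * ((y : Cfsg.Sz F m)⁻¹ * x * y) := by rw [e]
      _ = x * y := by group
  · intro hy
    have h2 : (y : Cfsg.Sz F m) ∈ Subgroup.centralizer ({(x : Cfsg.Sz F m)} : Set (Cfsg.Sz F m)) :=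
      (SetLike.ext_iff.1 (Tset_centralizer hm hF hd hC x.2 hx1).2 _).2 hy
    apply Subtype.ext
    show (y : Cfsg.Sz F m)⁻¹ * x * y = x
    rw [mul_assoc, ← Subgroup.mem_centralizer_singleton_iff.1 h2, inv_mul_cancel_left]

/-- the pairs moving an element to an element of its orbit -/
theorem card_pairs_elem [DecidableEq ↥C] {x : ↥C} (hx : x ≠ 1)
    (y0 : ↥(Subgroup.normalizer (C : Set (Cfsg.Sz F m)))) :
    (Finset.univ.filter fun p : ↥(Subgroup.normalizer (C : Set (Cfsg.Sz F m))) ×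
        ↥(Subgroup.normalizer (C : Set (Cfsg.Sz F m))) => cN C p.1 x = cN C p.2 (cN C y0 x)).card =
      nOf m d * d * d := by
  haveI : Fintype ↥C := Fintype.ofFinite _
  simp only [cN_cN hm hF hd hC]
  rw [← card_normalizer hm hF hd hC, ← Tset_card hm hF hd hC, Nat.card_eq_fintype_card,
    Nat.card_eq_fintype_card (α := ↥C), ← Fintype.card_prod]
  symm
  refine Finset.card_bij (s := Finset.univ)
    (fun p _ => (⟨(p.2 : Cfsg.Sz F m), Subgroup.le_normalizer p.2.2⟩ * (y0 * p.1), p.1)) ?_ ?_ ?_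
  · rintro ⟨z, c⟩ -
    rw [Finset.mem_filter]
    exact ⟨Finset.mem_univ _, by rw [← cN_cN hm hF hd hC, (cN_stab hm hF hd hC hx _).2 c.2]⟩
  · rintro ⟨z, c⟩ - ⟨z', c'⟩ - e
    obtain ⟨e1, e2⟩ := Prod.ext_iff.1 e
    simp only at e1 e2
    subst e2
    have e3 := mul_right_cancel e1
    exact Prod.ext rfl (Subtype.ext (congrArg Subtype.val e3 :))
  · rintro ⟨y, z⟩ hp
    rw [Finset.mem_filter] at hp
    have h2 : cN C (y * (y0 * z)⁻¹) x = x := by
      rw [← cN_cN hm hF hd hC, hp.2, cN_cN hm hF hd hC, mul_inv_cancel]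
      exact Subtype.ext (by show (1 : Cfsg.Sz F m)⁻¹ * x * 1 = x; group)
    refine ⟨(z, ⟨_, (cN_stab hm hF hd hC hx _).1 h2⟩), Finset.mem_univ _, Prod.ext (Subtype.ext ?_) rfl⟩
    simp [mul_assoc]

/-- every element of the torus is inverted in the normaliser -/
theorem exists_inverter : ∃ y0 : ↥(Subgroup.normalizer (C : Set (Cfsg.Sz F m))), ∀ x : ↥C, cN C y0 x = x⁻¹ := by
  obtain ⟨z, hz, rfl, -⟩ := id hC
  haveI : Fact (Nat.Prime 2) := ⟨Nat.prime_two⟩
  have h2 : 2 ∣ Nat.card ↥(NC z) := by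
    have := card_normalizer hm hF hd hC
    rw [show Nat.card ↥(NC z) = _ from this]
    refine Dvd.dvd.mul_right ?_ d
    unfold nOf; split_ifs <;> norm_num
  obtain ⟨g, hg⟩ := exists_prime_orderOf_dvd_card' (G := ↥(NC z)) 2 h2
  rw [← Subgroup.orderOf_coe] at hg
  refine ⟨g, fun x => Subtype.ext ?_⟩
  show (g : Cfsg.Sz F m)⁻¹ * x * g = ((x : Cfsg.Sz F m))⁻¹
  have h3 := invol_inverts hm hF hz g.2 hg x x.2
  have hgi : (g : Cfsg.Sz F m)⁻¹ = g := inv_eq_of_mul_eq_one_right (by rw [← sq, ← hg, pow_orderOf_eq_one])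
  rw [← h3, hgi]

variable [DecidableEq (↥C →* ℂˣ)]

/-- the squares along a column -/
theorem sum_orbS_sq {x : ↥C} (hx : x ≠ 1) :
    ∑ ψ ∈ Finset.univ.erase (1 : ↥C →* ℂˣ), orbS d ψ x ^ 2 =
      ((nOf m d : ℕ) : ℂ) * d - ((nOf m d : ℕ) : ℂ) ^ 2 := by
  classical
  obtain ⟨y0, hy0⟩ := exists_inverter hm hF hd hC
  have hd0 := Tset_cast_ne hm hF hd hC
  have h : ∑ ψ : ↥C →* ℂˣ, orbS d ψ x * orbS d ψ x = ((nOf m d : ℕ) : ℂ) * d := by
    rw [sum_orbS_mul hm hF hd hC, Finset.filter_congr (q := fun p : _ × _ => cN C p.1 x = cN C p.2 (cN C y0 x))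
      fun p _ => by rw [hy0, map_inv, mul_eq_one_iff_eq_inv], card_pairs_elem hm hF hd hC hx y0]
    push_cast
    field_simp
  rw [Finset.sum_erase_eq_sub (Finset.mem_univ _), orbS_one hm hF hd hC]
  simp only [sq] at h ⊢
  rw [h]

/-- the norms along a column -/
theorem sum_orbS_norm {x : ↥C} (hx : x ≠ 1) :
    ∑ ψ ∈ Finset.univ.erase (1 : ↥C →* ℂˣ), ‖orbS d ψ x‖ ^ 2 =
      ((nOf m d : ℕ) : ℝ) * d - ((nOf m d : ℕ) : ℝ) ^ 2 := by
  classical
  have hd0 := Tset_cast_ne hm hF hd hC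
  have h : ∑ ψ : ↥C →* ℂˣ, orbS d ψ x * conj (orbS d ψ x) = ((nOf m d : ℕ) : ℂ) * d := by
    simp only [conj_orbS hm hF hd hC]
    rw [sum_orbS_mul hm hF hd hC, Finset.filter_congr (q := fun p : _ × _ => cN C p.1 x = cN C p.2 (cN C 1 x))
      fun p _ => by
        rw [map_inv, mul_inv_eq_one, show cN C 1 x = x from Subtype.ext
          (by show (1 : Cfsg.Sz F m)⁻¹ * x * 1 = x; group)],
      card_pairs_elem hm hF hd hC hx 1]
    push_cast
    field_simp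
  simp only [Complex.mul_conj'] at h
  have h' : ∑ ψ : ↥C →* ℂˣ, ‖orbS d ψ x‖ ^ 2 = ((nOf m d : ℕ) : ℝ) * d :=
    Complex.ofReal_injective (by
      simp only [Complex.ofReal_sum, Complex.ofReal_pow, Complex.ofReal_mul, Complex.ofReal_natCast]; exact h)
  rw [Finset.sum_erase_eq_sub (Finset.mem_univ _), h', orbS_one hm hF hd hC, Complex.norm_natCast]

/-- the sum along a column -/
theorem sum_orbS {x : ↥C} (hx : x ≠ 1) :
    ∑ ψ ∈ Finset.univ.erase (1 : ↥C →* ℂˣ), orbS d ψ x = -((nOf m d : ℕ) : ℂ) := by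
  classical
  rw [Finset.sum_erase_eq_sub (Finset.mem_univ _), orbS_one hm hF hd hC]
  have : ∑ ψ : ↥C →* ℂˣ, orbS d ψ x = 0 := by
    simp only [orbS, ← Finset.mul_sum]
    rw [Finset.sum_comm, Finset.sum_eq_zero, mul_zero]
    intro y _
    simp only [MonoidHom.comp_apply]
    rw [sum_dual hm hF hd hC, if_neg]
    intro e
    apply hx
    have e' : (y : Cfsg.Sz F m)⁻¹ * x * y = 1 := congrArg Subtype.val e
    exact Subtype.ext (show (x : Cfsg.Sz F m) = 1 by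
      calc (x : Cfsg.Sz F m) = y * ((y : Cfsg.Sz F m)⁻¹ * x * y) * (y : Cfsg.Sz F m)⁻¹ := by group
        _ = 1 := by rw [e', mul_one, mul_inv_cancel])
  rw [this, zero_sub]

end CfsgLib.Lie.Suz
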