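import Cfsg.Agent.Lib.Lie.Suz.Char.Table
import Cfsg.Agent.Lib.Lie.Suz.Char.OrbitDual
import Cfsg.Agent.Lib.Lie.Suz.Twisted
import Cfsg.Agent.Lib.Char.ClassMul

/-!
# Products of two conjugates in the Suzuki groups
-/

set_option autoImplicit false
set_option linter.unusedSectionVars false

namespace CfsgLib.Lie.Suz

open Cfsg CfsgLib.Char
open scoped MatrixGroups ComplexConjugate

theorem ne_zero_of_real {z : ℂ} (A : ℝ) (h : z = (A : ℂ)) (hA : 0 < A) : z ≠ 0 := by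
  rw [h]; exact Complex.ofReal_ne_zero.2 hA.ne'

theorem ne_zero_of_norm {z : ℂ} (A : ℝ) (w : ℂ) (h : z = (A : ℂ) + w) (hA : ‖w‖ < A) : z ≠ 0 := by
  intro hz
  have h1 : w = -(A : ℂ) := by linear_combination hz - h
  have hpos : 0 < A := lt_of_le_of_lt (norm_nonneg w) hA
  rw [h1, norm_neg, Complex.norm_real, Real.norm_eq_abs, abs_of_pos hpos] at hA
  exact lt_irrefl A hA

/-- the summand of the class multiplication formula -/
noncomputable def csum {G : Type*} [One G] (x g : G) (χ : G → ℂ) : ℂ := χ x * χ x * conj (χ g) / χ 1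

/-- the class multiplication sum -/
noncomputable def cov {G : Type*} [Group G] (x g : G) : ℂ :=
  ∑ᶠ χ : IrrCharacter G, csum x g (χ : G → ℂ)

theorem cov_conj {G : Type*} [Group G] (x g a b : G) : cov (a * x * a⁻¹) (b * g * b⁻¹) = cov x g := by
  refine finsum_congr fun χ => ?_
  simp only [csum, isClassFunction_irr χ _ a, isClassFunction_irr χ _ b]


/- numerical facts -/
section numeric

variable {r : ℝ} (hr : 2 ≤ r)
include hr

theorem bnd : 8 ≤ 2 * r ^ 2 ∧ 0 < r * (2 * r ^ 2 - 1) ∧ 0 < (2 * r ^ 2) ^ 2 + 1 ∧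
    0 < (2 * r ^ 2 - 2 * r + 1) * (2 * r ^ 2 - 1) ∧ 0 < (2 * r ^ 2 + 2 * r + 1) * (2 * r ^ 2 - 1) := by
  have h1 : 8 ≤ 2 * r ^ 2 := by nlinarith
  have h2 : 0 < 2 * r ^ 2 - 1 := by linarith
  exact ⟨h1, by positivity, by positivity, mul_pos (by nlinarith) h2, mul_pos (by nlinarith) h2⟩

theorem small_q : 1 / (2 * r ^ 2) ^ 2 ≤ 1 / 64 ∧ -1 / 64 ≤ -1 / (2 * r ^ 2) ^ 2 ∧ 0 ≤ 1 / (2 * r ^ 2) ^ 2 := by
  obtain ⟨h1, -⟩ := bnd hr
  have h : 1 / (2 * r ^ 2) ^ 2 ≤ 1 / 64 := one_div_le_one_div_of_le (by norm_num) (by nlinarith)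
  exact ⟨h, by rw [neg_div, neg_div]; linarith, by positivity⟩

theorem small_w : 2 / (r * (2 * r ^ 2 - 1)) ≤ 1 / 7 ∧ 0 ≤ 2 / (r * (2 * r ^ 2 - 1)) := by
  obtain ⟨h1, h2, -⟩ := bnd hr
  exact ⟨by rw [div_le_iff₀ h2]; nlinarith, by positivity⟩

theorem small_v : 2 * r / (r * (2 * r ^ 2 - 1)) ≤ 2 / 7 ∧ 2 * r ^ 3 / (r * (2 * r ^ 2 - 1)) ≥ 0 ∧
    2 * r ^ 2 / (r * (2 * r ^ 2 - 1)) ≤ 4 / 7 := by
  obtain ⟨h1, h2, -⟩ := bnd hr
  refine ⟨by rw [div_le_iff₀ h2]; nlinarith, by positivity, ?_⟩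
  rw [div_le_iff₀ h2]
  have : 0 ≤ (4 * r + 1) * (r - 2) := by nlinarith
  nlinarith

theorem num_four_two : 0 <
    1 - r ^ 2 * (-2 * r) / (r * (2 * r ^ 2 - 1)) + (2 * r ^ 2 - 1 - 1) * 1 / ((2 * r ^ 2) ^ 2 + 1) / 2 +
        (2 * r ^ 2 + 2 * r + 1 - 1) * (2 * r - 1) / ((2 * r ^ 2 - 2 * r + 1) * (2 * r ^ 2 - 1)) / 4 +
      (2 * r ^ 2 - 2 * r + 1 - 1) * (-(2 * r) - 1) / ((2 * r ^ 2 + 2 * r + 1) * (2 * r ^ 2 - 1)) / 4 := by
  obtain ⟨h1, h2, h3, h4, h5⟩ := bnd hr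
  obtain ⟨-, a1, -⟩ := small_v hr
  have a2 : 0 ≤ (2 * r ^ 2 - 1 - 1) * 1 / ((2 * r ^ 2) ^ 2 + 1) := div_nonneg (by linarith) h3.le
  have a3 : 0 ≤ (2 * r ^ 2 + 2 * r + 1 - 1) * (2 * r - 1) / ((2 * r ^ 2 - 2 * r + 1) * (2 * r ^ 2 - 1)) :=
    div_nonneg (mul_nonneg (by nlinarith) (by linarith)) h4.le
  have a4 : -2 ≤ (2 * r ^ 2 - 2 * r + 1 - 1) * (-(2 * r) - 1) / ((2 * r ^ 2 + 2 * r + 1) * (2 * r ^ 2 - 1)) := by
    rw [le_div_iff₀ h5]
    nlinarith [mul_le_mul (show 2 * r ^ 2 - 2 * r + 1 - 1 ≤ 2 * r ^ 2 + 2 * r + 1 by linarith)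
      (show 2 * r + 1 ≤ 2 * (2 * r ^ 2 - 1) by nlinarith) (by linarith) (by nlinarith)]
  have e : r ^ 2 * (-2 * r) / (r * (2 * r ^ 2 - 1)) = -(2 * r ^ 3 / (r * (2 * r ^ 2 - 1))) := by ring
  linarith

theorem num_four_four : 0 <
    1 - r ^ 2 * 0 / (r * (2 * r ^ 2 - 1)) + (2 * r ^ 2 - 1 - 1) * 1 / ((2 * r ^ 2) ^ 2 + 1) / 2 +
        (2 * r ^ 2 + 2 * r + 1 - 1) * -1 / ((2 * r ^ 2 - 2 * r + 1) * (2 * r ^ 2 - 1)) / 4 +
      (2 * r ^ 2 - 2 * r + 1 - 1) * -1 / ((2 * r ^ 2 + 2 * r + 1) * (2 * r ^ 2 - 1)) / 4 := by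
  obtain ⟨h1, h2, h3, h4, h5⟩ := bnd hr
  have a2 : 0 ≤ (2 * r ^ 2 - 1 - 1) * 1 / ((2 * r ^ 2) ^ 2 + 1) := div_nonneg (by linarith) h3.le
  have a3 : -1 ≤ (2 * r ^ 2 + 2 * r + 1 - 1) * -1 / ((2 * r ^ 2 - 2 * r + 1) * (2 * r ^ 2 - 1)) := by
    rw [le_div_iff₀ h4]
    nlinarith [mul_le_mul_of_nonneg_left (show (7 : ℝ) ≤ 2 * r ^ 2 - 1 by linarith)
      (show 0 ≤ 2 * r ^ 2 - 2 * r + 1 by nlinarith)]
  have a4 : -1 ≤ (2 * r ^ 2 - 2 * r + 1 - 1) * -1 / ((2 * r ^ 2 + 2 * r + 1) * (2 * r ^ 2 - 1)) := by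
    rw [le_div_iff₀ h5]
    nlinarith [mul_le_mul_of_nonneg_left (show (7 : ℝ) ≤ 2 * r ^ 2 - 1 by linarith)
      (show 0 ≤ 2 * r ^ 2 + 2 * r + 1 by nlinarith)]
  simp only [mul_zero, zero_div, sub_zero]
  linarith

theorem num_four_A : 0 < 1 - r ^ 2 * 0 / (r * (2 * r ^ 2 - 1)) + -(1 * 2) / ((2 * r ^ 2) ^ 2 + 1) / 2 +
        0 / ((2 * r ^ 2 - 2 * r + 1) * (2 * r ^ 2 - 1)) / 4 +
      0 / ((2 * r ^ 2 + 2 * r + 1) * (2 * r ^ 2 - 1)) / 4 := by
  obtain ⟨h1, h2, h3, h4, h5⟩ := bnd hr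
  have a2 : -1 ≤ -(1 * 2) / ((2 * r ^ 2) ^ 2 + 1) := by rw [le_div_iff₀ h3]; nlinarith
  simp only [mul_zero, zero_div, sub_zero, add_zero]
  linarith

theorem num_four_P : 0 < 1 - r ^ 2 * 2 / (r * (2 * r ^ 2 - 1)) + 0 / ((2 * r ^ 2) ^ 2 + 1) / 2 +
        -(-1 * 4) / ((2 * r ^ 2 - 2 * r + 1) * (2 * r ^ 2 - 1)) / 4 +
      0 / ((2 * r ^ 2 + 2 * r + 1) * (2 * r ^ 2 - 1)) / 4 := by
  obtain ⟨h1, h2, h3, h4, h5⟩ := bnd hr
  obtain ⟨-, -, a1⟩ := small_v hr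
  have a3 : 0 ≤ -(-1 * 4) / ((2 * r ^ 2 - 2 * r + 1) * (2 * r ^ 2 - 1)) := div_nonneg (by norm_num) h4.le
  simp only [zero_div, add_zero]
  rw [mul_comm (r ^ 2) 2]
  linarith

theorem num_four_M : 0 < 1 - r ^ 2 * -2 / (r * (2 * r ^ 2 - 1)) + 0 / ((2 * r ^ 2) ^ 2 + 1) / 2 +
        0 / ((2 * r ^ 2 - 2 * r + 1) * (2 * r ^ 2 - 1)) / 4 +
      -(-1 * 4) / ((2 * r ^ 2 + 2 * r + 1) * (2 * r ^ 2 - 1)) / 4 := by
  obtain ⟨h1, h2, h3, h4, h5⟩ := bnd hr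
  have a1 : 0 ≤ r ^ 2 * 2 / (r * (2 * r ^ 2 - 1)) := by positivity
  have a3 : 0 ≤ -(-1 * 4) / ((2 * r ^ 2 + 2 * r + 1) * (2 * r ^ 2 - 1)) := div_nonneg (by norm_num) h5.le
  simp only [zero_div, add_zero, mul_neg, neg_div, sub_neg_eq_add] at a3 ⊢
  linarith

theorem num_A_two : 0 < 1 + 0 ^ 2 * (-2 * r) / (r * (2 * r ^ 2 - 1)) +
    1 * (2 * (2 * r ^ 2 - 1) - 2 ^ 2) / ((2 * r ^ 2) ^ 2 + 1) / 2 := by
  obtain ⟨h1, h2, h3, h4, h5⟩ := bnd hr
  have a : 0 ≤ 1 * (2 * (2 * r ^ 2 - 1) - 2 ^ 2) / ((2 * r ^ 2) ^ 2 + 1) := div_nonneg (by linarith) h3.le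
  simp only [ne_eq, OfNat.ofNat_ne_zero, not_false_eq_true, zero_pow, zero_mul, zero_div, add_zero]
  linarith

theorem num_A_four : 0 < 1 + 0 ^ 2 * 0 / (r * (2 * r ^ 2 - 1)) +
    1 * (2 * (2 * r ^ 2 - 1) - 2 ^ 2) / ((2 * r ^ 2) ^ 2 + 1) / 2 := by
  obtain ⟨h1, h2, h3, h4, h5⟩ := bnd hr
  have a : 0 ≤ 1 * (2 * (2 * r ^ 2 - 1) - 2 ^ 2) / ((2 * r ^ 2) ^ 2 + 1) := div_nonneg (by linarith) h3.le
  simp only [mul_zero, zero_div, add_zero]
  linarith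

theorem num_A_A : 2 * (2 * (2 * r ^ 2 - 1) - 2 ^ 2) / ((2 * r ^ 2) ^ 2 + 1) / 2 <
    1 + 1 / (2 * r ^ 2) ^ 2 + 0 ^ 2 * 0 / (r * (2 * r ^ 2 - 1)) := by
  obtain ⟨h1, h2, h3, h4, h5⟩ := bnd hr
  obtain ⟨-, -, a0⟩ := small_q hr
  have a : 2 * (2 * (2 * r ^ 2 - 1) - 2 ^ 2) / ((2 * r ^ 2) ^ 2 + 1) ≤ 1 := by
    rw [div_le_iff₀ h3]; nlinarith [sq_nonneg (2 * r ^ 2 - 2)]
  simp only [mul_zero, zero_div, add_zero]
  linarith

theorem num_A_other {k : ℝ} : 0 < 1 + -1 / (2 * r ^ 2) ^ 2 + 0 ^ 2 * k / (r * (2 * r ^ 2 - 1)) := by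
  obtain ⟨-, a0, -⟩ := small_q hr
  simp only [ne_eq, OfNat.ofNat_ne_zero, not_false_eq_true, zero_pow, zero_mul, zero_div, add_zero]
  linarith

theorem num_P_two : 0 < 1 + 1 ^ 2 * (-2 * r) / (r * (2 * r ^ 2 - 1)) +
      (2 * r - 1) * (4 * (2 * r ^ 2 + 2 * r + 1) - 4 ^ 2) / ((2 * r ^ 2 - 2 * r + 1) * (2 * r ^ 2 - 1)) / 4 := by
  obtain ⟨h1, h2, h3, h4, h5⟩ := bnd hr
  obtain ⟨a1, -, -⟩ := small_v hr
  have a : 0 ≤ (2 * r - 1) * (4 * (2 * r ^ 2 + 2 * r + 1) - 4 ^ 2) / ((2 * r ^ 2 - 2 * r + 1) * (2 * r ^ 2 - 1)) :=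
    div_nonneg (mul_nonneg (by linarith) (by nlinarith)) h4.le
  simp only [one_pow, one_mul, neg_mul, neg_div]
  linarith

theorem num_P_four : 0 < 1 + 1 ^ 2 * 0 / (r * (2 * r ^ 2 - 1)) +
      -1 * (4 * (2 * r ^ 2 + 2 * r + 1) - 4 ^ 2) / ((2 * r ^ 2 - 2 * r + 1) * (2 * r ^ 2 - 1)) / 4 := by
  obtain ⟨h1, h2, h3, h4, h5⟩ := bnd hr
  have a : -2 ≤ -1 * (4 * (2 * r ^ 2 + 2 * r + 1) - 4 ^ 2) / ((2 * r ^ 2 - 2 * r + 1) * (2 * r ^ 2 - 1)) := by
    rw [le_div_iff₀ h4]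
    nlinarith [mul_le_mul_of_nonneg_left (show (7 : ℝ) ≤ 2 * r ^ 2 - 1 by linarith)
      (show 0 ≤ 2 * r ^ 2 - 2 * r + 1 by nlinarith)]
  simp only [mul_zero, zero_div, add_zero]
  linarith

theorem num_P_other_A : 0 < 1 + 1 / (2 * r ^ 2) ^ 2 + 1 ^ 2 * 0 / (r * (2 * r ^ 2 - 1)) := by
  obtain ⟨-, -, a0⟩ := small_q hr
  simp only [mul_zero, zero_div, add_zero]
  linarith

theorem num_P_other_M : 0 < 1 + -1 / (2 * r ^ 2) ^ 2 + 1 ^ 2 * -2 / (r * (2 * r ^ 2 - 1)) := by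
  obtain ⟨-, a0, -⟩ := small_q hr
  obtain ⟨a1, -⟩ := small_w hr
  rw [one_pow, one_mul, neg_div (r * (2 * r ^ 2 - 1)) 2]
  linarith

theorem num_M_two : 0 < 1 + (-1) ^ 2 * (-2 * r) / (r * (2 * r ^ 2 - 1)) +
      (-(2 * r) - 1) * (4 * (2 * r ^ 2 - 2 * r + 1) - 4 ^ 2) / ((2 * r ^ 2 + 2 * r + 1) * (2 * r ^ 2 - 1)) / 4 := by
  obtain ⟨h1, h2, h3, h4, h5⟩ := bnd hr
  obtain ⟨a1, -, -⟩ := small_v hr
  have h6 : 2 * r + 1 ≤ 5 / 7 * (2 * r ^ 2 - 1) := by nlinarith [mul_nonneg (sub_nonneg.2 hr) (show (0 : ℝ) ≤ r by linarith)]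
  have a : -(20 / 7) < (-(2 * r) - 1) * (4 * (2 * r ^ 2 - 2 * r + 1) - 4 ^ 2) /
      ((2 * r ^ 2 + 2 * r + 1) * (2 * r ^ 2 - 1)) := by
    rw [lt_div_iff₀ h5]
    nlinarith [mul_le_mul_of_nonneg_left h6 (show 0 ≤ 4 * (2 * r ^ 2 + 2 * r + 1) by nlinarith),
      mul_pos (show 0 < 2 * r + 1 by linarith) (show 0 < 16 * r + 16 by linarith)]
  simp only [neg_sq, one_pow, one_mul, neg_mul, neg_div]
  linarith

theorem num_M_four : 0 < 1 + (-1) ^ 2 * 0 / (r * (2 * r ^ 2 - 1)) +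
      -1 * (4 * (2 * r ^ 2 - 2 * r + 1) - 4 ^ 2) / ((2 * r ^ 2 + 2 * r + 1) * (2 * r ^ 2 - 1)) / 4 := by
  obtain ⟨h1, h2, h3, h4, h5⟩ := bnd hr
  have a : -1 ≤ -1 * (4 * (2 * r ^ 2 - 2 * r + 1) - 4 ^ 2) / ((2 * r ^ 2 + 2 * r + 1) * (2 * r ^ 2 - 1)) := by
    rw [le_div_iff₀ h5]
    nlinarith [mul_le_mul_of_nonneg_left (show (7 : ℝ) ≤ 2 * r ^ 2 - 1 by linarith)
      (show 0 ≤ 2 * r ^ 2 + 2 * r + 1 by nlinarith)]
  simp only [mul_zero, zero_div, add_zero]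
  linarith

theorem num_M_other_A : 0 < 1 + 1 / (2 * r ^ 2) ^ 2 + (-1) ^ 2 * 0 / (r * (2 * r ^ 2 - 1)) := by
  obtain ⟨-, -, a0⟩ := small_q hr
  simp only [mul_zero, zero_div, add_zero]
  linarith

theorem num_M_other_P : 0 < 1 + -1 / (2 * r ^ 2) ^ 2 + (-1) ^ 2 * 2 / (r * (2 * r ^ 2 - 1)) := by
  obtain ⟨-, a0, -⟩ := small_q hr
  obtain ⟨-, a1⟩ := small_w hr
  rw [neg_sq, one_pow, one_mul]
  linarith

theorem num_M_M : 4 * (4 * (2 * r ^ 2 - 2 * r + 1) - 4 ^ 2) / ((2 * r ^ 2 + 2 * r + 1) * (2 * r ^ 2 - 1)) / 4 <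
    1 + -1 / (2 * r ^ 2) ^ 2 + (-1) ^ 2 * -2 / (r * (2 * r ^ 2 - 1)) := by
  obtain ⟨h1, h2, h3, h4, h5⟩ := bnd hr
  obtain ⟨-, a0, -⟩ := small_q hr
  obtain ⟨a1, -⟩ := small_w hr
  have a : 4 * (4 * (2 * r ^ 2 - 2 * r + 1) - 4 ^ 2) / ((2 * r ^ 2 + 2 * r + 1) * (2 * r ^ 2 - 1)) ≤ 16 / 7 := by
    rw [div_le_iff₀ h5]
    nlinarith [mul_le_mul_of_nonneg_left (show (7 : ℝ) ≤ 2 * r ^ 2 - 1 by linarith)
      (show 0 ≤ 2 * r ^ 2 + 2 * r + 1 by nlinarith)]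
  rw [neg_sq, one_pow, one_mul, neg_div (r * (2 * r ^ 2 - 1)) 2]
  linarith

end numeric

theorem num_P_P {r : ℝ} (hr : 4 ≤ r) :
    4 * (4 * (2 * r ^ 2 + 2 * r + 1) - 4 ^ 2) / ((2 * r ^ 2 - 2 * r + 1) * (2 * r ^ 2 - 1)) / 4 <
      1 + -1 / (2 * r ^ 2) ^ 2 + 1 ^ 2 * 2 / (r * (2 * r ^ 2 - 1)) := by
  have hr' : 2 ≤ r := by linarith
  obtain ⟨h1, h2, h3, h4, h5⟩ := bnd hr'
  obtain ⟨-, a0, -⟩ := small_q hr'
  obtain ⟨-, a1⟩ := small_w hr'
  have a : 4 * (4 * (2 * r ^ 2 + 2 * r + 1) - 4 ^ 2) / ((2 * r ^ 2 - 2 * r + 1) * (2 * r ^ 2 - 1)) ≤ 2 := by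
    rw [div_le_iff₀ h4]
    nlinarith [mul_le_mul_of_nonneg_left (show (31 : ℝ) ≤ 2 * r ^ 2 - 1 by nlinarith)
      (show 0 ≤ 2 * r ^ 2 - 2 * r + 1 by nlinarith)]
  rw [one_pow, one_mul]
  linarith


variable {F : Type*} [Field F] [Fintype F] {m : ℕ}
variable (hm : 1 ≤ m) (hF : Fintype.card F = 2 ^ (2 * m + 1))

include hm hF

variable [Fintype (Cfsg.Sz F m)]

section family

variable {d : ℕ} {C : Subgroup (Cfsg.Sz F m)} (hd : d ∈ threeD m) (hC : C ∈ Tset F m d)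
variable {R : Row} {σ : ℤ} {deg v : ℝ}
variable [Fintype (↥C →* ℂˣ)] [DecidableEq (↥C →* ℂˣ)]

include hd hC

theorem card_nontriv : ((Finset.univ.erase (1 : ↥C →* ℂˣ)).card : ℂ) = (d : ℂ) - 1 := by
  rw [Finset.card_erase_of_mem (Finset.mem_univ _), Finset.card_univ, ← Nat.card_eq_fintype_card,
    card_lin hm hF hd hC, Nat.cast_sub (tori_coprime hF hm hd hd).2.1.le, Nat.cast_one]

theorem col_invol (h : GoodRow F m d R σ deg v) {g : Cfsg.Sz F m} (hg : orderOf g = 2) :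
    ∑ ψ ∈ Finset.univ.erase (1 : ↥C →* ℂˣ), conj (exX hF R σ ψ g) = ((((d : ℝ) - 1) * v : ℝ) : ℂ) := by
  simp only [exX_invol hm hF hd hC h _ hg, Complex.conj_ofReal, Finset.sum_const, nsmul_eq_mul,
    card_nontriv hm hF hd hC]
  push_cast; ring

theorem col_four (h : GoodRow F m d R σ deg v) {g : Cfsg.Sz F m} (hg : orderOf g = 4) :
    ∑ ψ ∈ Finset.univ.erase (1 : ↥C →* ℂˣ), conj (exX hF R σ ψ g) = ((((d : ℝ) - 1) * σ : ℝ) : ℂ) := by
  simp only [exX_four hm hF hd hC h _ hg, map_intCast, Finset.sum_const, nsmul_eq_mul,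
    card_nontriv hm hF hd hC]
  push_cast; ring

theorem col_off (h : GoodRow F m d R σ deg v) {e : ℕ} {D : Subgroup (Cfsg.Sz F m)} (he : e ∈ threeD m)
    (hD : D ∈ Tset F m e) (hne : e ≠ d) {g : ↥D} (hg : g ≠ 1) (ψ : ↥C →* ℂˣ) :
    exX hF R σ ψ (g : Cfsg.Sz F m) = 0 := by
  obtain ⟨h1, h2⟩ := Tset_centralizer hm hF he hD g.2 fun e => hg (Subtype.ext e)
  exact exX_off hm hF hd hC h ψ h1 (by rw [h2, Tset_card hm hF he hD]; exact hne)

theorem col_same (h : GoodRow F m d R σ deg v) {g : ↥C} (hg : g ≠ 1) :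
    ∑ ψ ∈ Finset.univ.erase (1 : ↥C →* ℂˣ), conj (exX hF R σ ψ (g : Cfsg.Sz F m)) =
      ((-((σ : ℝ) * (nOf m d : ℕ)) : ℝ) : ℂ) := by
  haveI : Fintype ↥(Subgroup.normalizer (C : Set (Cfsg.Sz F m))) := Fintype.ofFinite _
  rw [← map_sum]
  simp only [exX_torus hm hF hd hC h _ hg]
  rw [← Finset.mul_sum, map_mul, map_intCast]
  have := sum_orbS hm hF hd hC hg
  simp only [orbS] at this
  rw [this, map_neg, map_natCast, Complex.ofReal_neg, Complex.ofReal_mul, Complex.ofReal_intCast, Complex.ofReal_natCast]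
  ring

theorem fam_four (h : GoodRow F m d R σ deg v) {x : Cfsg.Sz F m} (hx : orderOf x = 4) (g : Cfsg.Sz F m) :
    ∑ ψ ∈ Finset.univ.erase (1 : ↥C →* ℂˣ), csum x g (exX hF R σ ψ) =
      (∑ ψ ∈ Finset.univ.erase (1 : ↥C →* ℂˣ), conj (exX hF R σ ψ g)) / (deg : ℂ) := by
  have hσ : (σ : ℂ) * σ = 1 := by rcases h.sign with e | e <;> rw [e] <;> norm_num
  simp only [csum, exX_four hm hF hd hC h _ hx, exX_one hm hF hd hC h, hσ, one_mul, ← Finset.sum_div]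

theorem fam_torus_two (h : GoodRow F m d R σ deg v) {x : ↥C} (hx : x ≠ 1) {g : Cfsg.Sz F m}
    (a : ℝ) (hg : ∀ ψ : ↥C →* ℂˣ, exX hF R σ ψ g = (a : ℂ)) :
    ∑ ψ ∈ Finset.univ.erase (1 : ↥C →* ℂˣ), csum (x : Cfsg.Sz F m) g (exX hF R σ ψ) =
      ((a * ((nOf m d : ℕ) * (d : ℝ) - ((nOf m d : ℕ) : ℝ) ^ 2) / deg : ℝ) : ℂ) := by
  haveI : Fintype ↥(Subgroup.normalizer (C : Set (Cfsg.Sz F m))) := Fintype.ofFinite _
  have hσ : (σ : ℂ) * σ = 1 := by rcases h.sign with e | e <;> rw [e] <;> norm_num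
  have hsq := sum_orbS_sq hm hF hd hC hx
  simp only [orbS] at hsq
  have e : ∀ ψ : ↥C →* ℂˣ, csum (x : Cfsg.Sz F m) g (exX hF R σ ψ) =
      (a : ℂ) / (deg : ℂ) * ((d : ℂ)⁻¹ * ∑ y, ((ψ.comp (cN C y)) x : ℂ)) ^ 2 := fun ψ => by
    rw [csum, hg, Complex.conj_ofReal, exX_torus hm hF hd hC h ψ hx, exX_one hm hF hd hC h, mul_mul_mul_comm,
      hσ, one_mul]
    ring
  rw [Finset.sum_congr rfl fun ψ _ => e ψ, ← Finset.mul_sum, hsq]
  simp only [Complex.ofReal_div, Complex.ofReal_mul, Complex.ofReal_sub, Complex.ofReal_pow, Complex.ofReal_natCast]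
  ring

theorem fam_torus_zero (h : GoodRow F m d R σ deg v) {e : ℕ} {D : Subgroup (Cfsg.Sz F m)} (he : e ∈ threeD m)
    (hD : D ∈ Tset F m e) (hne : e ≠ d) {x : ↥D} (hx : x ≠ 1) (g : Cfsg.Sz F m) :
    ∑ ψ ∈ Finset.univ.erase (1 : ↥C →* ℂˣ), csum (x : Cfsg.Sz F m) g (exX hF R σ ψ) = 0 :=
  Finset.sum_eq_zero fun ψ _ => by simp [csum, col_off hm hF hd hC h he hD hne hx ψ]

theorem fam_torus_same (h : GoodRow F m d R σ deg v) (hR : IsGeneralizedCharacter _ (mkCF hF R : Cfsg.Sz F m → ℂ))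
    (hdeg : 0 < deg) {x g : ↥C} (hx : x ≠ 1) (hg : g ≠ 1) (M : ℝ) (hM0 : 0 ≤ M)
    (hM : ((nOf m d : ℕ) : ℝ) ≤ M ∨ (d : ℝ) - (nOf m d : ℕ) ≤ M ^ 2) :
    ‖∑ ψ ∈ Finset.univ.erase (1 : ↥C →* ℂˣ), csum (x : Cfsg.Sz F m) g (exX hF R σ ψ)‖ ≤
      M * ((nOf m d : ℕ) * (d : ℝ) - ((nOf m d : ℕ) : ℝ) ^ 2) / deg := by
  haveI : Fintype ↥(Subgroup.normalizer (C : Set (Cfsg.Sz F m))) := Fintype.ofFinite _
  have hσ : ‖(σ : ℂ)‖ = 1 := by rcases h.sign with e | e <;> rw [e] <;> norm_num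
  have key : ∀ ψ ∈ Finset.univ.erase (1 : ↥C →* ℂˣ), ‖exX hF R σ ψ (g : Cfsg.Sz F m)‖ ≤ M := by
    intro ψ hψ
    rcases hM with hM | hM
    · rw [exX_torus hm hF hd hC h ψ hg, norm_mul, hσ, one_mul]
      exact (norm_orbS_le hm hF hd hC ψ g).trans hM
    · obtain ⟨S, -, -, hS⟩ := exists_family hm hF hd hC h hR hdeg
      -- a member of the family occurs once among the distinct characters
      have hn : (0 : ℝ) < (nOf m d : ℕ) := by
        refine Nat.cast_pos.2 ?_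
        unfold nOf; split_ifs <;> norm_num
      have hcol : ∀ φ : ↥C →* ℂˣ, ‖exX hF R σ φ (g : Cfsg.Sz F m)‖ ^ 2 = ‖orbS d φ g‖ ^ 2 := fun φ => by
        rw [exX_torus hm hF hd hC h φ hg, norm_mul, hσ, one_mul]; rfl
      have hsum := hS fun X => ((‖X (g : Cfsg.Sz F m)‖ ^ 2 : ℝ) : ℂ)
      simp only [hcol, ← Complex.ofReal_sum, ← Complex.ofReal_natCast, ← Complex.ofReal_mul,
        sum_orbS_norm hm hF hd hC hg, Complex.ofReal_inj] at hsum
      have hmem : exX hF R σ ψ ∈ S := by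
        by_contra hn
        have := hS fun X => if X = exX hF R σ ψ then (1 : ℂ) else 0
        rw [Finset.sum_eq_zero fun X hX => if_neg fun e : X = _ => hn (by rw [← e]; exact hX), mul_zero,
          Finset.sum_boole] at this
        have hpos : 0 < ((Finset.univ.erase (1 : ↥C →* ℂˣ)).filter fun φ => exX hF R σ φ = exX hF R σ ψ).card :=
          Finset.card_pos.2 ⟨ψ, Finset.mem_filter.2 ⟨hψ, rfl⟩⟩
        exact hpos.ne' (Nat.cast_eq_zero.1 this.symm)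
      have h1 : ‖exX hF R σ ψ (g : Cfsg.Sz F m)‖ ^ 2 ≤ M ^ 2 := by
        refine le_trans ?_ hM
        refine (Finset.single_le_sum (f := fun X : Cfsg.Sz F m → ℂ => ‖X (g : Cfsg.Sz F m)‖ ^ 2)
          (fun X _ => by positivity) hmem).trans (le_of_eq ?_)
        apply mul_left_cancel₀ hn.ne'
        rw [hsum]; ring
      exact (sq_le_sq₀ (norm_nonneg _) hM0).1 h1
  refine (norm_sum_le _ _).trans ?_
  rw [mul_div_assoc, ← sum_orbS_norm hm hF hd hC hx, Finset.sum_div, Finset.mul_sum]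
  refine Finset.sum_le_sum fun ψ hψ => ?_
  rw [csum, exX_one hm hF hd hC h, norm_div, norm_mul, norm_mul, Complex.norm_conj, Complex.norm_real,
    Real.norm_eq_abs, abs_of_pos hdeg, exX_torus hm hF hd hC h ψ hx, norm_mul, hσ, one_mul, ← sq, mul_comm,
    mul_div_assoc]
  exact mul_le_mul_of_nonneg_right (key ψ hψ) (by positivity)

end family

theorem cast_dR : ((dA m : ℕ) : ℝ) = 2 * (2 ^ m) ^ 2 - 1 ∧ ((dP m : ℕ) : ℝ) = 2 * (2 ^ m) ^ 2 + 2 * 2 ^ m + 1 ∧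
    ((dM m : ℕ) : ℝ) = 2 * (2 ^ m) ^ 2 - 2 * 2 ^ m + 1 := by
  obtain ⟨a, b, c⟩ := cast_d hm hF
  refine ⟨?_, ?_, ?_⟩ <;> apply Complex.ofReal_injective <;> simp only [Complex.ofReal_natCast, Complex.ofReal_add,
    Complex.ofReal_sub, Complex.ofReal_mul, Complex.ofReal_pow, Complex.ofReal_ofNat, Complex.ofReal_one]
  exacts [a, b, c]

/-- the values of the small rows at a torus element -/
theorem rows_torus {e : ℕ} {D : Subgroup (Cfsg.Sz F m)} (he : e ∈ threeD m) (hD : D ∈ Tset F m e)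
    {g : ↥D} (hg : g ≠ 1) :
    mkCF hF (rowSt m) (g : Cfsg.Sz F m) = (rowSt m).tor m e ∧ mkCF hF (rowW m) (g : Cfsg.Sz F m) = (rowW m).tor m e ∧
      mkCF hF (rowW' m) (g : Cfsg.Sz F m) = (rowW m).tor m e :=
  ⟨mkCF_torus hm hF _ hD g.2 fun e => hg (Subtype.ext e), mkCF_torus hm hF _ hD g.2 fun e => hg (Subtype.ext e),
    mkCF_torus hm hF _ hD g.2 fun e => hg (Subtype.ext e)⟩

section total

variable {CA CP CM' : Subgroup (Cfsg.Sz F m)} (hA : CA ∈ Tset F m (dA m)) (hP : CP ∈ Tset F m (dP m))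
  (hM : CM' ∈ Tset F m (dM m))
variable [Fintype (↥CA →* ℂˣ)] [Fintype (↥CP →* ℂˣ)] [Fintype (↥CM' →* ℂˣ)]
  [DecidableEq (↥CA →* ℂˣ)] [DecidableEq (↥CP →* ℂˣ)] [DecidableEq (↥CM' →* ℂˣ)]

include hA hP hM

theorem cov_four {x : Cfsg.Sz F m} (hx : orderOf x = 4) (g : Cfsg.Sz F m) (w tA tP tM : ℝ)
    (hw : conj (mkCF hF (rowW m) g) + conj (mkCF hF (rowW' m) g) = (w : ℂ))
    (h1 : ∑ ψ ∈ Finset.univ.erase (1 : ↥CA →* ℂˣ), conj (exX hF (rowA m) 1 ψ g) = (tA : ℂ))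
    (h2 : ∑ ψ ∈ Finset.univ.erase (1 : ↥CP →* ℂˣ), conj (exX hF (rowP m) (-1) ψ g) = (tP : ℂ))
    (h3 : ∑ ψ ∈ Finset.univ.erase (1 : ↥CM' →* ℂˣ), conj (exX hF (rowM m) (-1) ψ g) = (tM : ℂ)) :
    cov x g = ((1 - (2 ^ m) ^ 2 * w / (2 ^ m * (2 * (2 ^ m) ^ 2 - 1)) + tA / degA m / 2 + tP / degP m / 4 +
      tM / degM m / 4 : ℝ) : ℂ) := by
  obtain ⟨hA', hP', hM', -⟩ := dvd_tori hm hF
  rw [cov, sum_table hm hF hA hP hM, fam_four hm hF hA' hA (good_A hm hF) hx, fam_four hm hF hP' hP (good_P hm hF) hx,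
    fam_four hm hF hM' hM (good_M hm hF) hx, h1, h2, h3]
  have hs : sgnG hF x * sgnG hF x = 1 := by rcases sgnG_cases hF x with e | e <;> rw [e] <;> norm_num
  simp only [csum, mkCF_one, mkCF_four hF _ hx, map_one, mul_one, div_one, rowSt, zero_mul, add_zero, zero_div,
    rowW, rowW', zero_add]
  push_cast
  rw [← hw, mul_mul_mul_comm ((2 : ℂ) ^ m * Complex.I) _ _ _,
    mul_mul_mul_comm (-((2 : ℂ) ^ m * Complex.I)) _ _ _, hs]
  simp only [rowW, rowW']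
  ring_nf
  simp only [Complex.I_sq]
  ring

theorem cov_torus {d : ℕ} {C : Subgroup (Cfsg.Sz F m)} (hd : d ∈ threeD m) (hC : C ∈ Tset F m d)
    {x : ↥C} (hx : x ≠ 1) (g : Cfsg.Sz F m) (u c w : ℝ) (Z : ℂ)
    (hu : (rowSt m).tor m d = 1 ∨ (rowSt m).tor m d = -1) (hc : (rowW m).tor m d = (c : ℂ))
    (hs : conj (mkCF hF (rowSt m) g) = (u : ℂ))
    (hw : conj (mkCF hF (rowW m) g) + conj (mkCF hF (rowW' m) g) = (w : ℂ))
    (hZ : (∑ ψ ∈ Finset.univ.erase (1 : ↥CA →* ℂˣ), csum (x : Cfsg.Sz F m) g (exX hF (rowA m) 1 ψ)) / 2 +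
      (∑ ψ ∈ Finset.univ.erase (1 : ↥CP →* ℂˣ), csum (x : Cfsg.Sz F m) g (exX hF (rowP m) (-1) ψ)) / 4 +
      (∑ ψ ∈ Finset.univ.erase (1 : ↥CM' →* ℂˣ), csum (x : Cfsg.Sz F m) g (exX hF (rowM m) (-1) ψ)) / 4 = Z) :
    cov (x : Cfsg.Sz F m) g = ((1 + u / (2 * (2 ^ m) ^ 2) ^ 2 + c ^ 2 * w / (2 ^ m * (2 * (2 ^ m) ^ 2 - 1)) : ℝ) : ℂ) +
      Z := by
  obtain ⟨e1, e2, e3⟩ := rows_torus hm hF hd hC hx
  have hu' : (rowSt m).tor m d * (rowSt m).tor m d = 1 := by rcases hu with e | e <;> rw [e] <;> norm_num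
  have eq1 : (rowW m).c1 = (((2 : ℝ) ^ m * (2 * (2 ^ m) ^ 2 - 1) : ℝ) : ℂ) := by simp [rowW]
  have eq2 : (rowW' m).c1 = (((2 : ℝ) ^ m * (2 * (2 ^ m) ^ 2 - 1) : ℝ) : ℂ) := by simp [rowW']
  rw [cov, sum_table hm hF hA hP hM, ← hZ]
  simp only [csum, mkCF_one, e1, e2, e3, hc, hu', hs, eq1, eq2, map_one, mul_one, div_one, one_mul]
  rw [show (rowSt m).c1 = ((2 : ℂ) * (2 ^ m) ^ 2) ^ 2 from rfl]
  push_cast
  rw [← hw]
  ring

end total

/-- the value of the class sum is never zero -/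
theorem cov_ne_zero {x g : Cfsg.Sz F m} (hx : 2 < orderOf x) (hg : g ≠ 1) : cov x g ≠ 0 := by
  classical
  obtain ⟨hA', hP', hM', n1, n2, n3⟩ := dvd_tori hm hF
  obtain ⟨CA, hA, -⟩ := Tset_rep hm hF hA'
  obtain ⟨CP, hP, -⟩ := Tset_rep hm hF hP'
  obtain ⟨CM', hM, -⟩ := Tset_rep hm hF hM'
  haveI : Finite (↥CA →* ℂˣ) := Nat.finite_of_card_ne_zero (by
    rw [card_lin hm hF hA' hA]; have := (tori_coprime hF hm hA' hA').2.1; omega)
  haveI : Finite (↥CP →* ℂˣ) := Nat.finite_of_card_ne_zero (by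
    rw [card_lin hm hF hP' hP]; have := (tori_coprime hF hm hP' hP').2.1; omega)
  haveI : Finite (↥CM' →* ℂˣ) := Nat.finite_of_card_ne_zero (by
    rw [card_lin hm hF hM' hM]; have := (tori_coprime hF hm hM' hM').2.1; omega)
  haveI : Fintype (↥CA →* ℂˣ) := Fintype.ofFinite _
  haveI : Fintype (↥CP →* ℂˣ) := Fintype.ofFinite _
  haveI : Fintype (↥CM' →* ℂˣ) := Fintype.ofFinite _
  have gA := good_A hm hF
  have gP := good_P hm hF
  have gM := good_M hm hF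
  obtain ⟨-, -, -, rA, rP, rM⟩ := gen_rows hm hF
  obtain ⟨cA, cP, cM⟩ := cast_dR hm hF
  obtain ⟨-, -, hr2⟩ := q_bounds hm hF
  have torA : ∀ R : Row, R.tor m (dA m) = R.cA := fun R => if_pos rfl
  have torP : ∀ R : Row, R.tor m (dP m) = R.cP := fun R => (if_neg n1.symm).trans (if_pos rfl)
  have torM : ∀ R : Row, R.tor m (dM m) = R.cM := fun R => (if_neg n2.symm).trans (if_neg n3.symm)
  have mA : nOf m (dA m) = 2 := if_pos rfl
  have mP : nOf m (dP m) = 4 := if_neg n1.symm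
  have mM : nOf m (dM m) = 4 := if_neg n2.symm
  -- moving a non-2-element into one of the three tori
  have move : ∀ z : Cfsg.Sz F m, ¬ IsTwo z → ∃ a : Cfsg.Sz F m,
      (∃ u : ↥CA, u ≠ 1 ∧ a * z * a⁻¹ = (u : Cfsg.Sz F m)) ∨ (∃ u : ↥CP, u ≠ 1 ∧ a * z * a⁻¹ = (u : Cfsg.Sz F m)) ∨
      (∃ u : ↥CM', u ≠ 1 ∧ a * z * a⁻¹ = (u : Cfsg.Sz F m)) := by
    intro z hz
    have go : ∀ {d : ℕ} {C : Subgroup (Cfsg.Sz F m)}, C ∈ Tset F m d →
        Nat.card ↥(Subgroup.centralizer ({z} : Set (Cfsg.Sz F m))) = d →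
        ∃ a : Cfsg.Sz F m, ∃ u : ↥C, u ≠ 1 ∧ a * z * a⁻¹ = (u : Cfsg.Sz F m) := by
      intro d C hC hcard
      obtain ⟨c, hc⟩ := Tset_conj hm hF (d := d) ⟨z, hz, rfl, hcard⟩ hC
      refine ⟨c, ⟨c * z * c⁻¹, hc ▸ ⟨z, Subgroup.mem_centralizer_singleton_iff.2 rfl, rfl⟩⟩, fun e => hz ⟨0, ?_⟩, rfl⟩
      have e' : c * z * c⁻¹ = 1 := congrArg Subtype.val e
      rw [pow_zero, pow_one, conj_eq_one_iff.1 e']
    have hc := centralizer_card hm hF hz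
    simp only [Set.mem_insert_iff, Set.mem_singleton_iff] at hc
    rcases hc with h | h | h
    · obtain ⟨a, ha⟩ := go hA h; exact ⟨a, Or.inl ha⟩
    · obtain ⟨a, ha⟩ := go hP h; exact ⟨a, Or.inr (Or.inl ha)⟩
    · obtain ⟨a, ha⟩ := go hM h; exact ⟨a, Or.inr (Or.inr ha)⟩
  have swap : ∀ a b, cov (a * x * a⁻¹) (b * g * b⁻¹) ≠ 0 → cov x g ≠ 0 := fun a b h => by rwa [cov_conj] at h
  -- the values of the rows
  have w2 : ∀ {h : Cfsg.Sz F m}, orderOf h = 2 → conj (mkCF hF (rowSt m) h) = ((0 : ℝ) : ℂ) ∧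
      conj (mkCF hF (rowW m) h) + conj (mkCF hF (rowW' m) h) = ((-2 * 2 ^ m : ℝ) : ℂ) := fun {h} hh => by
    simp only [mkCF_two hF _ hh, rowSt, rowW, rowW', map_zero, map_neg, map_pow, map_ofNat]
    push_cast
    exact ⟨rfl, by ring⟩
  have w4 : ∀ {h : Cfsg.Sz F m}, orderOf h = 4 → conj (mkCF hF (rowSt m) h) = ((0 : ℝ) : ℂ) ∧
      conj (mkCF hF (rowW m) h) + conj (mkCF hF (rowW' m) h) = ((0 : ℝ) : ℂ) := fun {h} hh => by
    simp only [mkCF_four hF _ hh, rowSt, rowW, rowW', map_zero, map_add, map_neg, map_mul, map_pow, map_ofNat,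
      Complex.ofReal_zero]
    exact ⟨by ring, by ring⟩
  have wA : ∀ {u : ↥CA}, u ≠ 1 → conj (mkCF hF (rowSt m) (u : Cfsg.Sz F m)) = ((1 : ℝ) : ℂ) ∧
      conj (mkCF hF (rowW m) (u : Cfsg.Sz F m)) + conj (mkCF hF (rowW' m) (u : Cfsg.Sz F m)) = ((0 : ℝ) : ℂ) :=
    fun {u} hu => by
      obtain ⟨e1, e2, e3⟩ := rows_torus hm hF hA' hA hu
      rw [e1, e2, e3, torA, torA]; simp [rowSt, rowW]
  have wP : ∀ {u : ↥CP}, u ≠ 1 → conj (mkCF hF (rowSt m) (u : Cfsg.Sz F m)) = ((-1 : ℝ) : ℂ) ∧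
      conj (mkCF hF (rowW m) (u : Cfsg.Sz F m)) + conj (mkCF hF (rowW' m) (u : Cfsg.Sz F m)) = ((2 : ℝ) : ℂ) :=
    fun {u} hu => by
      obtain ⟨e1, e2, e3⟩ := rows_torus hm hF hP' hP hu
      rw [e1, e2, e3, torP, torP]; simp [rowSt, rowW]; norm_num
  have wM : ∀ {u : ↥CM'}, u ≠ 1 → conj (mkCF hF (rowSt m) (u : Cfsg.Sz F m)) = ((-1 : ℝ) : ℂ) ∧
      conj (mkCF hF (rowW m) (u : Cfsg.Sz F m)) + conj (mkCF hF (rowW' m) (u : Cfsg.Sz F m)) = ((-2 : ℝ) : ℂ) :=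
    fun {u} hu => by
      obtain ⟨e1, e2, e3⟩ := rows_torus hm hF hM' hM hu
      rw [e1, e2, e3, torM, torM]; simp [rowSt, rowW]; norm_num
  by_cases hxt : IsTwo x
  · -- an element of order four
    have hx4 : orderOf x = 4 := (two_cases hm hF hxt (fun e => by rw [e, orderOf_one] at hx; omega)).resolve_left
      (by omega)
    by_cases hgt : IsTwo g
    · rcases two_cases hm hF hgt hg with h2 | h4
      · refine ne_zero_of_real _ (cov_four hm hF hA hP hM hx4 g _ _ _ _ (w2 h2).2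
          (col_invol hm hF hA' hA gA h2) (col_invol hm hF hP' hP gP h2) (col_invol hm hF hM' hM gM h2)) ?_
        simp only [cA, cP, cM, degA, degP, degM]
        generalize (2 : ℝ) ^ m = r at hr2 ⊢
        exact num_four_two hr2
      · refine ne_zero_of_real _ (cov_four hm hF hA hP hM hx4 g _ _ _ _ (w4 h4).2
          (col_four hm hF hA' hA gA h4) (col_four hm hF hP' hP gP h4) (col_four hm hF hM' hM gM h4)) ?_
        simp only [cA, cP, cM, degA, degP, degM, Int.cast_one, Int.cast_neg]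
        generalize (2 : ℝ) ^ m = r at hr2 ⊢
        exact num_four_four hr2
    · obtain ⟨a, ⟨u, hu, e⟩ | ⟨u, hu, e⟩ | ⟨u, hu, e⟩⟩ := move g hgt <;>
        refine swap 1 a ?_ <;> rw [one_mul, inv_one, mul_one, e]
      · refine ne_zero_of_real _ (cov_four hm hF hA hP hM hx4 _ _ _ 0 0 (wA hu).2
          (col_same hm hF hA' hA gA hu)
          (by simp [col_off hm hF hP' hP gP hA' hA n1 hu]) (by simp [col_off hm hF hM' hM gM hA' hA n2 hu])) ?_
        simp only [mA, degA, degP, degM, Int.cast_one, Nat.cast_ofNat]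
        generalize (2 : ℝ) ^ m = r at hr2 ⊢
        exact num_four_A hr2
      · refine ne_zero_of_real _ (cov_four hm hF hA hP hM hx4 _ _ 0 _ 0 (wP hu).2
          (by simp [col_off hm hF hA' hA gA hP' hP n1.symm hu])
          (col_same hm hF hP' hP gP hu) (by simp [col_off hm hF hM' hM gM hP' hP n3 hu])) ?_
        simp only [mP, degA, degP, degM, Int.cast_one, Int.cast_neg, Nat.cast_ofNat]
        generalize (2 : ℝ) ^ m = r at hr2 ⊢
        exact num_four_P hr2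
      · refine ne_zero_of_real _ (cov_four hm hF hA hP hM hx4 _ _ 0 0 _ (wM hu).2
          (by simp [col_off hm hF hA' hA gA hM' hM n2.symm hu])
          (by simp [col_off hm hF hP' hP gP hM' hM n3.symm hu]) (col_same hm hF hM' hM gM hu)) ?_
        simp only [mM, degA, degP, degM, Int.cast_one, Int.cast_neg, Nat.cast_ofNat]
        generalize (2 : ℝ) ^ m = r at hr2 ⊢
        exact num_four_M hr2
  · obtain ⟨b, hb⟩ := move x hxt
    rcases hb with ⟨z, hz, ez⟩ | ⟨z, hz, ez⟩ | ⟨z, hz, ez⟩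
    · have hc : (rowW m).tor m (dA m) = ((0 : ℝ) : ℂ) := by simp [torA, rowW]
      have hu : (rowSt m).tor m (dA m) = 1 ∨ (rowSt m).tor m (dA m) = -1 := Or.inl (torA _)
      have oP := fun h => fam_torus_zero hm hF hP' hP gP hA' hA n1 hz h
      have oM := fun h => fam_torus_zero hm hF hM' hM gM hA' hA n2 hz h
      by_cases hgt : IsTwo g
      · refine swap b 1 ?_
        rw [ez, one_mul, inv_one, mul_one]
        rcases two_cases hm hF hgt hg with h2 | h4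
        · refine ne_zero_of_real _ ((cov_torus hm hF hA hP hM hA' hA hz g _ _ _ _ hu hc (w2 h2).1 (w2 h2).2 (by
            rw [oP, oM, fam_torus_two hm hF hA' hA gA hz 1 fun ψ => exX_invol hm hF hA' hA gA ψ h2])).trans (by
            simp only [zero_div, add_zero, ← Complex.ofReal_ofNat, ← Complex.ofReal_div, ← Complex.ofReal_add]
            rfl)) ?_
          simp only [mA, cA, degA, Nat.cast_ofNat]
          generalize (2 : ℝ) ^ m = r at hr2 ⊢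
          exact num_A_two hr2
        · refine ne_zero_of_real _ ((cov_torus hm hF hA hP hM hA' hA hz g _ _ _ _ hu hc (w4 h4).1 (w4 h4).2 (by
            rw [oP, oM, fam_torus_two hm hF hA' hA gA hz ((1 : ℤ) : ℝ) fun ψ => by
              rw [exX_four hm hF hA' hA gA ψ h4, Complex.ofReal_intCast]])).trans (by
            simp only [zero_div, add_zero, ← Complex.ofReal_ofNat, ← Complex.ofReal_div, ← Complex.ofReal_add]
            rfl)) ?_
          simp only [mA, cA, degA, Nat.cast_ofNat, Int.cast_one]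
          generalize (2 : ℝ) ^ m = r at hr2 ⊢
          exact num_A_four hr2
      · obtain ⟨a, ⟨u, hu', e⟩ | ⟨u, hu', e⟩ | ⟨u, hu', e⟩⟩ := move g hgt <;> refine swap b a ?_ <;> rw [ez, e]
        · refine ne_zero_of_norm _ _ (cov_torus hm hF hA hP hM hA' hA hz _ _ _ _ _ hu hc (wA hu').1 (wA hu').2 rfl) ?_
          rw [oP, oM, zero_div, add_zero, add_zero, norm_div, Complex.norm_ofNat]
          refine lt_of_le_of_lt (div_le_div_of_nonneg_right (fam_torus_same hm hF hA' hA gA rA (by unfold degA; positivity)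
            hz hu' 2 (by norm_num) (Or.inl (by rw [mA]; norm_num))) (by norm_num)) ?_
          simp only [mA, cA, degA, Nat.cast_ofNat]
          generalize (2 : ℝ) ^ m = r at hr2 ⊢
          exact num_A_A hr2
        all_goals
          refine ne_zero_of_norm _ _ (cov_torus hm hF hA hP hM hA' hA hz _ _ _ _ _ hu hc (by first | exact (wP hu').1 | exact (wM hu').1)
            (by first | exact (wP hu').2 | exact (wM hu').2) rfl) ?_
          rw [oP, oM, Finset.sum_eq_zero fun ψ _ => ?_, zero_div, zero_div, add_zero, add_zero, norm_zero]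
          · generalize (2 : ℝ) ^ m = r at hr2 ⊢
            exact num_A_other hr2
          · unfold csum
            first
              | rw [col_off hm hF hA' hA gA hP' hP n1.symm hu', map_zero, mul_zero, zero_div]
              | rw [col_off hm hF hA' hA gA hM' hM n2.symm hu', map_zero, mul_zero, zero_div]
    · have hc : (rowW m).tor m (dP m) = ((1 : ℝ) : ℂ) := by simp [torP, rowW]
      have hu : (rowSt m).tor m (dP m) = 1 ∨ (rowSt m).tor m (dP m) = -1 := Or.inr (torP _)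
      have oA := fun h => fam_torus_zero hm hF hA' hA gA hP' hP n1.symm hz h
      have oM := fun h => fam_torus_zero hm hF hM' hM gM hP' hP n3 hz h
      by_cases hgt : IsTwo g
      · refine swap b 1 ?_
        rw [ez, one_mul, inv_one, mul_one]
        rcases two_cases hm hF hgt hg with h2 | h4
        · refine ne_zero_of_real _ ((cov_torus hm hF hA hP hM hP' hP hz g _ _ _ _ hu hc (w2 h2).1 (w2 h2).2 (by
            rw [oA, oM, fam_torus_two hm hF hP' hP gP hz _ fun ψ => exX_invol hm hF hP' hP gP ψ h2])).trans (by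
            simp only [zero_div, add_zero, zero_add, ← Complex.ofReal_ofNat, ← Complex.ofReal_div, ← Complex.ofReal_add]
            rfl)) ?_
          simp only [mP, cP, degP, Nat.cast_ofNat]
          generalize (2 : ℝ) ^ m = r at hr2 ⊢
          exact num_P_two hr2
        · refine ne_zero_of_real _ ((cov_torus hm hF hA hP hM hP' hP hz g _ _ _ _ hu hc (w4 h4).1 (w4 h4).2 (by
            rw [oA, oM, fam_torus_two hm hF hP' hP gP hz ((-1 : ℤ) : ℝ) fun ψ => by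
              rw [exX_four hm hF hP' hP gP ψ h4, Complex.ofReal_intCast]])).trans (by
            simp only [zero_div, add_zero, zero_add, ← Complex.ofReal_ofNat, ← Complex.ofReal_div, ← Complex.ofReal_add]
            rfl)) ?_
          simp only [mP, cP, degP, Nat.cast_ofNat, Int.cast_neg, Int.cast_one]
          generalize (2 : ℝ) ^ m = r at hr2 ⊢
          exact num_P_four hr2
      · obtain ⟨a, ⟨u, hu', e⟩ | ⟨u, hu', e⟩ | ⟨u, hu', e⟩⟩ := move g hgt <;> refine swap b a ?_ <;> rw [ez, e]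
        · refine ne_zero_of_norm _ _ (cov_torus hm hF hA hP hM hP' hP hz _ _ _ _ _ hu hc (wA hu').1 (wA hu').2 rfl) ?_
          rw [oA, oM, Finset.sum_eq_zero fun ψ _ => ?_, zero_div, zero_div, add_zero, add_zero, norm_zero]
          · generalize (2 : ℝ) ^ m = r at hr2 ⊢
            exact num_P_other_A hr2
          · unfold csum; rw [col_off hm hF hP' hP gP hA' hA n1 hu', map_zero, mul_zero, zero_div]
        · refine ne_zero_of_norm _ _ (cov_torus hm hF hA hP hM hP' hP hz _ _ _ _ _ hu hc (wP hu').1 (wP hu').2 rfl) ?_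
          rw [oA, oM, zero_div, zero_div, add_zero, zero_add, norm_div, Complex.norm_ofNat]
          rcases (Nat.lt_or_ge m 2) with hm2 | hm2
          · obtain rfl : m = 1 := by omega
            refine lt_of_le_of_lt (div_le_div_of_nonneg_right (fam_torus_same hm hF hP' hP gP rP
              (by unfold degP; norm_num) hz hu' 3 (by norm_num) (Or.inr ?_)) (by norm_num)) ?_
            · rw [mP, cP]; norm_num
            · rw [mP, cP, degP]; norm_num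
          · refine lt_of_le_of_lt (div_le_div_of_nonneg_right (fam_torus_same hm hF hP' hP gP rP
              (by obtain ⟨o1, o2, -⟩ := deg_order hm hF; linarith) hz hu' 4 (by norm_num)
              (Or.inl (by rw [mP]; norm_num))) (by norm_num)) ?_
            have hr4 : (4 : ℝ) ≤ 2 ^ m := by
              calc (4 : ℝ) = 2 ^ 2 := by norm_num
                _ ≤ 2 ^ m := pow_le_pow_right₀ (by norm_num) hm2
            simp only [mP, cP, degP, Nat.cast_ofNat]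
            generalize (2 : ℝ) ^ m = r at hr4 ⊢
            exact num_P_P hr4
        · refine ne_zero_of_norm _ _ (cov_torus hm hF hA hP hM hP' hP hz _ _ _ _ _ hu hc (wM hu').1 (wM hu').2 rfl) ?_
          rw [oA, oM, Finset.sum_eq_zero fun ψ _ => ?_, zero_div, zero_div, add_zero, add_zero, norm_zero]
          · generalize (2 : ℝ) ^ m = r at hr2 ⊢
            exact num_P_other_M hr2
          · unfold csum; rw [col_off hm hF hP' hP gP hM' hM n3.symm hu', map_zero, mul_zero, zero_div]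
    · have hc : (rowW m).tor m (dM m) = ((-1 : ℝ) : ℂ) := by simp [torM, rowW]
      have hu : (rowSt m).tor m (dM m) = 1 ∨ (rowSt m).tor m (dM m) = -1 := Or.inr (torM _)
      have oA := fun h => fam_torus_zero hm hF hA' hA gA hM' hM n2.symm hz h
      have oP := fun h => fam_torus_zero hm hF hP' hP gP hM' hM n3.symm hz h
      by_cases hgt : IsTwo g
      · refine swap b 1 ?_
        rw [ez, one_mul, inv_one, mul_one]
        rcases two_cases hm hF hgt hg with h2 | h4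
        · refine ne_zero_of_real _ ((cov_torus hm hF hA hP hM hM' hM hz g _ _ _ _ hu hc (w2 h2).1 (w2 h2).2 (by
            rw [oA, oP, fam_torus_two hm hF hM' hM gM hz _ fun ψ => exX_invol hm hF hM' hM gM ψ h2])).trans (by
            simp only [zero_div, add_zero, zero_add, ← Complex.ofReal_ofNat, ← Complex.ofReal_div, ← Complex.ofReal_add]
            rfl)) ?_
          simp only [mM, cM, degM, Nat.cast_ofNat]
          generalize (2 : ℝ) ^ m = r at hr2 ⊢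
          exact num_M_two hr2
        · refine ne_zero_of_real _ ((cov_torus hm hF hA hP hM hM' hM hz g _ _ _ _ hu hc (w4 h4).1 (w4 h4).2 (by
            rw [oA, oP, fam_torus_two hm hF hM' hM gM hz ((-1 : ℤ) : ℝ) fun ψ => by
              rw [exX_four hm hF hM' hM gM ψ h4, Complex.ofReal_intCast]])).trans (by
            simp only [zero_div, add_zero, zero_add, ← Complex.ofReal_ofNat, ← Complex.ofReal_div, ← Complex.ofReal_add]
            rfl)) ?_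
          simp only [mM, cM, degM, Nat.cast_ofNat, Int.cast_neg, Int.cast_one]
          generalize (2 : ℝ) ^ m = r at hr2 ⊢
          exact num_M_four hr2
      · obtain ⟨a, ⟨u, hu', e⟩ | ⟨u, hu', e⟩ | ⟨u, hu', e⟩⟩ := move g hgt <;> refine swap b a ?_ <;> rw [ez, e]
        · refine ne_zero_of_norm _ _ (cov_torus hm hF hA hP hM hM' hM hz _ _ _ _ _ hu hc (wA hu').1 (wA hu').2 rfl) ?_
          rw [oA, oP, Finset.sum_eq_zero fun ψ _ => ?_, zero_div, zero_div, add_zero, add_zero, norm_zero]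
          · generalize (2 : ℝ) ^ m = r at hr2 ⊢
            exact num_M_other_A hr2
          · unfold csum; rw [col_off hm hF hM' hM gM hA' hA n2 hu', map_zero, mul_zero, zero_div]
        · refine ne_zero_of_norm _ _ (cov_torus hm hF hA hP hM hM' hM hz _ _ _ _ _ hu hc (wP hu').1 (wP hu').2 rfl) ?_
          rw [oA, oP, Finset.sum_eq_zero fun ψ _ => ?_, zero_div, zero_div, add_zero, add_zero, norm_zero]
          · generalize (2 : ℝ) ^ m = r at hr2 ⊢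
            exact num_M_other_P hr2
          · unfold csum; rw [col_off hm hF hM' hM gM hP' hP n3 hu', map_zero, mul_zero, zero_div]
        · refine ne_zero_of_norm _ _ (cov_torus hm hF hA hP hM hM' hM hz _ _ _ _ _ hu hc (wM hu').1 (wM hu').2 rfl) ?_
          rw [oA, oP, zero_div, zero_div, zero_add, zero_add, norm_div, Complex.norm_ofNat]
          refine lt_of_le_of_lt (div_le_div_of_nonneg_right (fam_torus_same hm hF hM' hM gM rM
            (by obtain ⟨o1, o2, o3, o4, o5⟩ := deg_order hm hF; linarith) hz hu' 4 (by norm_num)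
            (Or.inl (by rw [mM]; norm_num))) (by norm_num)) ?_
          simp only [mM, cM, degM, Nat.cast_ofNat]
          generalize (2 : ℝ) ^ m = r at hr2 ⊢
          exact num_M_M hr2

/-- every non-identity element is a product of two conjugates -/
theorem covers {x g : Cfsg.Sz F m} (hx : 2 < orderOf x) (hg : g ≠ 1) :
    ∃ u v : Cfsg.Sz F m, g = (u * x * u⁻¹) * (v * x * v⁻¹) := by
  have h := classConst_formula x x g
  have hpos : ∀ a : Cfsg.Sz F m, (Nat.card {y : Cfsg.Sz F m // IsConj a y} : ℂ) ≠ 0 := fun a => by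
    haveI : Nonempty {y : Cfsg.Sz F m // IsConj a y} := ⟨⟨a, IsConj.refl a⟩⟩
    exact Nat.cast_ne_zero.2 Nat.card_pos.ne'
  have hne : (classConst x x g : ℂ) ≠ 0 := by
    rw [h]
    exact mul_ne_zero (div_ne_zero (mul_ne_zero (hpos x) (hpos x)) card_ne_zero') (cov_ne_zero hm hF hx hg)
  have hne' : classConst x x g ≠ 0 := fun e => hne (by rw [e, Nat.cast_zero])
  obtain ⟨⟨⟨a, b⟩, ha, hb, hab⟩⟩ := (Nat.card_ne_zero.1 hne').1
  obtain ⟨u, rfl⟩ := isConj_iff.1 ha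
  obtain ⟨v, rfl⟩ := isConj_iff.1 hb
  exact ⟨u, v, hab.symm⟩

end CfsgLib.Lie.Suz
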