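import Cfsg.Agent.Lib.Lie.Suz.Char.Classes

/-!
# Class functions of the Suzuki groups given by a row of values
-/

set_option autoImplicit false

namespace CfsgLib.Lie.Suz

open Cfsg CfsgLib.Char
open scoped MatrixGroups ComplexConjugate

/-- the constant function and the regular one, combined -/
theorem isGeneralized_const_reg {H : Type*} [Group H] [Finite H] (a b : ℤ) {f : H → ℂ}
    (h1 : f 1 = (a : ℂ) + (b : ℂ) * (Nat.card H : ℂ)) (h2 : ∀ h : H, h ≠ 1 → f h = (a : ℂ)) :
    IsGeneralizedCharacter H f := by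
  classical
  haveI : Fintype H := Fintype.ofFinite _
  have e : f = (a : ℂ) • (fun _ => (1 : ℂ)) + (b : ℂ) • (Representation.leftRegular ℂ H).character := by
    funext h
    simp only [Pi.add_apply, Pi.smul_apply, smul_eq_mul, mul_one, regular_char]
    split_ifs with hh
    · rw [hh, h1]
    · rw [mul_zero, add_zero, h2 h hh]
  rw [e]
  exact isGeneralizedCharacter_add
    (isGeneralizedCharacter_zsmul (isGeneralizedCharacter_of_isCharacter (isCharacter_of_isIrr isIrrCharacter_one)) a)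
    (isGeneralizedCharacter_zsmul (isGeneralizedCharacter_of_isCharacter (isCharacter_character _)) b)

variable {F : Type*} [Field F] [Fintype F] {m : ℕ}

/-- the data of a row of the table -/
structure Row where
  /-- the value at the identity -/
  c1 : ℂ
  /-- the value at an involution -/
  c2 : ℂ
  /-- the mean value at elements of order four -/
  c4 : ℂ
  /-- the deviation at elements of order four -/
  s4 : ℂ
  /-- the value on the split tori -/
  cA : ℂ
  /-- the value on the larger free tori -/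
  cP : ℂ
  /-- the value on the smaller free tori -/
  cM : ℂ

variable (hm : 1 ≤ m) (hF : Fintype.card F = 2 ^ (2 * m + 1))

open Classical in
/-- the class function of a row -/
noncomputable def mkCF (R : Row) (g : Cfsg.Sz F m) : ℂ :=
  if g = 1 then R.c1 else if IsTwo g then (if orderOf g = 2 then R.c2 else R.c4 + R.s4 * sgnG hF g)
  else if Nat.card ↥(Subgroup.centralizer ({g} : Set (Cfsg.Sz F m))) = dA m then R.cA
  else if Nat.card ↥(Subgroup.centralizer ({g} : Set (Cfsg.Sz F m))) = dP m then R.cP else R.cM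

include hm hF

omit hm in
theorem mkCF_one (R : Row) : mkCF hF R (1 : Cfsg.Sz F m) = R.c1 := by
  unfold mkCF; exact if_pos rfl

omit hm in
theorem mkCF_two (R : Row) {g : Cfsg.Sz F m} (hg : orderOf g = 2) : mkCF hF R g = R.c2 := by
  obtain ⟨h1, h2⟩ := isTwo_of_order hF (Or.inl hg)
  unfold mkCF; rw [if_neg h2, if_pos h1, if_pos hg]

omit hm in
theorem mkCF_four (R : Row) {g : Cfsg.Sz F m} (hg : orderOf g = 4) :
    mkCF hF R g = R.c4 + R.s4 * sgnG hF g := by
  obtain ⟨h1, h2⟩ := isTwo_of_order hF (Or.inr hg)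
  unfold mkCF; rw [if_neg h2, if_pos h1, if_neg (by omega)]

theorem mkCF_TS_zero (R : Row) {b : F} (hb : b ≠ 0) : mkCF hF R (TS hF 0 b : Cfsg.Sz F m) = R.c2 :=
  mkCF_two hF R (TS_order_two hF hb)

theorem mkCF_TS (R : Row) {a : F} (ha : a ≠ 0) (b : F) :
    mkCF hF R (TS hF a b : Cfsg.Sz F m) = R.c4 + R.s4 * sgnF m a b := by
  rw [mkCF_four hF R (TS_order_four hF ha b), sgnG_TS hm hF ha]

theorem sgnF_rho : sgnF m (1 : F) 0 = 1 ∧ sgnF m (1 : F) 1 = -1 := by
  constructor
  · unfold sgnF; rw [mul_zero, (eps_sign hF).map_zero]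
  · unfold sgnF; rw [inv_one, th_one (isSuzField hF), mul_one, mul_one, eps_one hF]

theorem mkCF_rho (R : Row) : mkCF hF R (TS hF 1 0 : Cfsg.Sz F m) = R.c4 + R.s4 ∧
    mkCF hF R (TS hF 1 1 : Cfsg.Sz F m) = R.c4 - R.s4 := by
  obtain ⟨h0, h1⟩ := sgnF_rho hm hF
  rw [mkCF_TS hm hF R one_ne_zero, mkCF_TS hm hF R one_ne_zero, h0, h1, mul_one, mul_neg_one, ← sub_eq_add_neg]
  exact ⟨rfl, rfl⟩

omit hm in
theorem mkCF_nontwo (R : Row) {g : Cfsg.Sz F m} (hg : ¬ IsTwo g) :
    mkCF hF R g = if Nat.card ↥(Subgroup.centralizer ({g} : Set (Cfsg.Sz F m))) = dA m then R.cA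
      else if Nat.card ↥(Subgroup.centralizer ({g} : Set (Cfsg.Sz F m))) = dP m then R.cP else R.cM := by
  classical
  unfold mkCF; rw [if_neg (fun e => hg ⟨0, by rw [e, one_pow]⟩), if_neg hg]

/-- the value of a row on a torus type -/
noncomputable def Row.tor (R : Row) (m d : ℕ) : ℂ :=
  if d = dA m then R.cA else if d = dP m then R.cP else R.cM

theorem mkCF_torus (R : Row) {d : ℕ} {C : Subgroup (Cfsg.Sz F m)} (hC : C ∈ Tset F m d)
    {x : Cfsg.Sz F m} (hx : x ∈ C) (hx1 : x ≠ 1) : mkCF hF R x = R.tor m d := by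
  obtain ⟨z, hz, rfl, hd⟩ := hC
  obtain ⟨h1, h2⟩ := (nontwo_centralizer hm hF hz).2 x hx hx1
  rw [mkCF_nontwo hF R h1, h2, hd]
  rfl

omit hm in
theorem mkCF_class (R : Row) : IsClassFunction (Cfsg.Sz F m) (mkCF hF R) := by
  classical
  intro g h
  have e1 : h * g * h⁻¹ = 1 ↔ g = 1 := conj_eq_one_iff
  have e2 : IsTwo (h * g * h⁻¹) ↔ IsTwo g :=
    ⟨fun t => by simpa [mul_assoc] using t.conj h⁻¹, fun t => t.conj h⟩
  have e3 : orderOf (h * g * h⁻¹) = orderOf g :=
    orderOf_injective (MulAut.conj h).toMonoidHom (MulAut.conj h).injective g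
  have e4 : Nat.card ↥(Subgroup.centralizer ({h * g * h⁻¹} : Set (Cfsg.Sz F m))) =
      Nat.card ↥(Subgroup.centralizer ({g} : Set (Cfsg.Sz F m))) := by
    rw [centralizer_conj, Subgroup.card_map_of_injective (MulAut.conj h).injective]
  unfold mkCF
  simp only [e1, e2, e3, e4, sgnG_conj]

/-- when a row is a generalised character -/
theorem mkCF_generalized (R : Row) (α β γ δ : ℤ) (σ' : ℤ → ℂ) (bA bP bM aA aP aM : ℤ)
    (h1 : R.c1 = α + (β + γ) * (2 ^ m * ((Fintype.card F : ℂ) - 1)) + δ * (Fintype.card F : ℂ) ^ 2)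
    (h2 : R.c2 = α - (β + γ) * 2 ^ m) (h4 : R.c4 = α) (hσ' : ∀ σ : ℤ, σ = 1 ∨ σ = -1 → R.s4 = σ' σ)
    (hs : ∀ σ : ℤ, σ = 1 ∨ σ = -1 → ∃ β' γ' : ℤ, β' + γ' = β + γ ∧
      σ' σ = (β' - γ') * σ * 2 ^ m * Complex.I)
    (hA : R.cA = aA ∧ R.c1 = aA + bA * (dA m : ℕ)) (hP : R.cP = aP ∧ R.c1 = aP + bP * (dP m : ℕ))
    (hM : R.cM = aM ∧ R.c1 = aM + bM * (dM m : ℕ)) :
    IsGeneralizedCharacter (Cfsg.Sz F m) (mkCF hF R) := by
  classical
  refine isGeneralized_of_local hm hF (mkCF_class hF R) ?_ ?_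
  · haveI : Fintype ↥(U hF : Subgroup (Cfsg.Sz F m)) := Fintype.ofFinite _
    obtain ⟨w, σ, hw, hσ, w1, w2, w4⟩ := exists_wchar hm hF
    obtain ⟨β', γ', hsum, hs'⟩ := hs σ hσ
    have e : (fun u : ↥(U hF : Subgroup (Cfsg.Sz F m)) => mkCF hF R u) =
        (α : ℂ) • (fun _ => (1 : ℂ)) + (β' : ℂ) • w + (γ' : ℂ) • (fun u => conj (w u)) +
          (δ : ℂ) • (Representation.leftRegular ℂ ↥(U hF : Subgroup (Cfsg.Sz F m))).character := by
      funext u
      simp only [Pi.add_apply, Pi.smul_apply, smul_eq_mul, mul_one, regular_char, card_U hF, Nat.cast_pow]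
      have hbc : (β' : ℂ) + γ' = β + γ := by exact_mod_cast hsum
      obtain ⟨a, b, rfl⟩ := tu_surj hF u
      rcases eq_or_ne a 0 with rfl | ha
      · rcases eq_or_ne b 0 with rfl | hb
        · rw [tu_zero hF, OneMemClass.coe_one, mkCF_one, h1, w1, if_pos rfl]
          simp only [map_mul, map_pow, map_ofNat, map_sub, map_natCast, map_one]
          linear_combination -((2 : ℂ) ^ m * ((Fintype.card F : ℂ) - 1)) * hbc
        · rw [show ((tu hF 0 b : ↥(U hF : Subgroup (Cfsg.Sz F m))) : Cfsg.Sz F m) = TS hF 0 b from rfl,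
            mkCF_TS_zero hm hF R hb, h2, w2 b hb, if_neg fun e => hb (tu_inj hF (e.trans (tu_zero hF).symm)).2]
          simp only [map_neg, map_pow, map_ofNat]
          linear_combination ((2 : ℂ) ^ m) * hbc
      · rw [show ((tu hF a b : ↥(U hF : Subgroup (Cfsg.Sz F m))) : Cfsg.Sz F m) = TS hF a b from rfl,
          mkCF_TS hm hF R ha, h4, hσ' σ hσ, hs', w4 a b ha,
          if_neg fun e => ha (tu_inj hF (e.trans (tu_zero hF).symm)).1]
        have hsg : conj (sgnF m a b) = sgnF m a b := by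
          unfold sgnF
          rcases eps_cases (m := m) (th m a⁻¹ * a⁻¹ * b) with e | e <;> rw [e] <;> simp
        simp only [map_mul, map_pow, map_ofNat, map_intCast, Complex.conj_I, hsg]
        ring
    rw [e]
    refine isGeneralizedCharacter_add (isGeneralizedCharacter_add (isGeneralizedCharacter_add
      (isGeneralizedCharacter_zsmul
        (isGeneralizedCharacter_of_isCharacter (isCharacter_of_isIrr isIrrCharacter_one)) α)
      (isGeneralizedCharacter_zsmul (isGeneralizedCharacter_of_isCharacter hw) β'))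
      (isGeneralizedCharacter_zsmul (isGeneralizedCharacter_of_isCharacter (isCharacter_conj hw)) γ'))
      (isGeneralizedCharacter_zsmul (isGeneralizedCharacter_of_isCharacter (isCharacter_character _)) δ)
  · intro d hd C hC
    have hcard : Nat.card ↥C = d := by obtain ⟨z, -, rfl, h⟩ := hC; exact h
    obtain ⟨a, b, ha, hb⟩ : ∃ a b : ℤ, R.tor m d = a ∧ R.c1 = a + b * (d : ℕ) := by
      obtain ⟨-, -, -, n1, n2, n3⟩ := dvd_tori hm hF
      simp only [threeD, Set.mem_insert_iff, Set.mem_singleton_iff] at hd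
      rcases hd with rfl | rfl | rfl
      · exact ⟨aA, bA, (if_pos rfl).trans hA.1, hA.2⟩
      · exact ⟨aP, bP, ((if_neg n1.symm).trans (if_pos rfl)).trans hP.1, hP.2⟩
      · exact ⟨aM, bM, ((if_neg n2.symm).trans (if_neg n3.symm)).trans hM.1, hM.2⟩
    refine isGeneralized_const_reg a b ?_ fun x hx => ?_
    · rw [OneMemClass.coe_one, mkCF_one, hcard, hb]
    · exact (mkCF_torus hm hF R hC x.2 fun e => hx (Subtype.ext e)).trans ha

theorem card_group_C : (Nat.card (Cfsg.Sz F m) : ℂ) =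
    (Fintype.card F : ℂ) ^ 2 * ((Fintype.card F : ℂ) ^ 2 + 1) * ((Fintype.card F : ℂ) - 1) := by
  rw [card_group hm hF, Nat.cast_mul, Nat.cast_mul, Nat.cast_add, Nat.cast_pow, Nat.cast_one,
    Nat.cast_sub Fintype.card_pos, Nat.cast_one]

/-- the sum of the values of a row squared -/
theorem inner_mkCF [Fintype (Cfsg.Sz F m)] (R S : Row) :
    (Nat.card (Cfsg.Sz F m) : ℂ) * classInner (mkCF hF R : Cfsg.Sz F m → ℂ) (mkCF hF S) =
      R.c1 * conj S.c1 + ((Fintype.card F : ℂ) ^ 2 + 1) * ((Fintype.card F : ℂ) - 1) * (R.c2 * conj S.c2) +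
      ((Fintype.card F : ℂ) ^ 2 + 1) * ((Fintype.card F : ℂ) ^ 2 - Fintype.card F) / 2 *
        ((R.c4 + R.s4) * conj (S.c4 + S.s4) + (R.c4 - R.s4) * conj (S.c4 - S.s4)) +
      (Nat.card (Cfsg.Sz F m) : ℂ) * (((dA m : ℕ) - 1) * (R.cA * conj S.cA) / (2 * (dA m : ℕ)) +
        ((dP m : ℕ) - 1) * (R.cP * conj S.cP) / (4 * (dP m : ℕ)) +
        ((dM m : ℕ) - 1) * (R.cM * conj S.cM) / (4 * (dM m : ℕ))) := by
  classical
  obtain ⟨hA', hP', hM', n1, n2, n3⟩ := dvd_tori hm hF
  obtain ⟨CA, hA, -⟩ := Tset_rep hm hF hA'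
  obtain ⟨CP, hP, -⟩ := Tset_rep hm hF hP'
  obtain ⟨CM', hM, -⟩ := Tset_rep hm hF hM'
  haveI : Fintype ↥CA := Fintype.ofFinite _
  haveI : Fintype ↥CP := Fintype.ofFinite _
  haveI : Fintype ↥CM' := Fintype.ofFinite _
  rw [classInner, mul_inv_cancel_left₀ card_ne_zero',
    sum_classes hm hF (f := fun g => mkCF hF R g * conj (mkCF hF S g))
      (fun g h => by simp only [mkCF_class hF R g h, mkCF_class hF S g h]) hA hP hM]
  have tor : ∀ d (C : Subgroup (Cfsg.Sz F m)) [Fintype ↥C], C ∈ Tset F m d →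
      (∑ x : ↥C, mkCF hF R x * conj (mkCF hF S x)) - mkCF hF R 1 * conj (mkCF hF S (1 : Cfsg.Sz F m)) =
        ((d : ℂ) - 1) * (R.tor m d * conj (S.tor m d)) := by
    intro d C _ hC
    have hcard : Fintype.card ↥C = d := by
      obtain ⟨z, -, rfl, h⟩ := id hC
      rw [← h, Nat.card_eq_fintype_card]
    have h := Finset.sum_erase_eq_sub (f := fun x : ↥C => mkCF hF R x * conj (mkCF hF S x))
      (Finset.mem_univ (1 : ↥C))
    simp only [OneMemClass.coe_one] at h
    rw [← h, Finset.sum_congr rfl (g := fun _ => R.tor m d * conj (S.tor m d)) fun x hx => by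
      rw [mkCF_torus hm hF R hC x.2 (fun e => (Finset.mem_erase.1 hx).1 (Subtype.ext e)),
        mkCF_torus hm hF S hC x.2 (fun e => (Finset.mem_erase.1 hx).1 (Subtype.ext e))],
      Finset.sum_const, Finset.card_erase_of_mem (Finset.mem_univ _), Finset.card_univ, hcard, nsmul_eq_mul,
      Nat.cast_sub (hcard ▸ Fintype.card_pos), Nat.cast_one]
  simp only [tor _ CA hA, tor _ CP hP, tor _ CM' hM]
  simp only [mkCF_one, mkCF_TS_zero hm hF _ (one_ne_zero (α := F)), (mkCF_rho hm hF _).1, (mkCF_rho hm hF _).2,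
    Row.tor, if_true, if_neg n1.symm, if_neg n2.symm, if_neg n3.symm]

end CfsgLib.Lie.Suz
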