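import Cfsg.Agent.Lib.Lie.Suz.Char.Table
import Cfsg.Agent.Lib.Lie.Suz.Twisted
import Cfsg.Prelude.Def_DegreeGraph

/-!
# The degrees of the irreducible characters of the Suzuki groups
-/

set_option autoImplicit false

namespace CfsgLib.Lie.Suz

open Cfsg CfsgLib.Char
open scoped MatrixGroups ComplexConjugate

theorem charDegrees_mono {G H : Type*} [Group G] [Group H] (e : G ≃* H) : charDegrees H ⊆ charDegrees G := by
  intro d hd
  obtain ⟨⟨χ, hχ⟩, rfl⟩ := hd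
  refine ⟨⟨_, isIrrCharacter_comp_surjective hχ (f := e.toMonoidHom) e.surjective⟩, ?_⟩
  simp [charDegree]

/-- isomorphic groups have the same degrees -/
theorem charDegrees_equiv {G H : Type*} [Group G] [Group H] (e : G ≃* H) :
    charDegrees G = charDegrees H :=
  Set.Subset.antisymm (charDegrees_mono e.symm) (charDegrees_mono e)

variable {F : Type*} [Field F] [Fintype F] {m : ℕ}
variable (hm : 1 ≤ m) (hF : Fintype.card F = 2 ^ (2 * m + 1))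

include hm hF

/-- the six degrees -/
theorem charDegrees_Sz : charDegrees (Cfsg.Sz F m) = {1, (2 ^ (2 * m + 1)) ^ 2,
    2 ^ m * (2 ^ (2 * m + 1) - 1), (2 ^ (2 * m + 1)) ^ 2 + 1, dM m * (2 ^ (2 * m + 1) - 1),
    dP m * (2 ^ (2 * m + 1) - 1)} := by
  classical
  haveI : Fintype (Cfsg.Sz F m) := Fintype.ofFinite _
  obtain ⟨hA', hP', hM', -⟩ := dvd_tori hm hF
  obtain ⟨CA, hA, -⟩ := Tset_rep hm hF hA'
  obtain ⟨CP, hP, -⟩ := Tset_rep hm hF hP'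
  obtain ⟨CM', hM, -⟩ := Tset_rep hm hF hM'
  obtain ⟨cA, cP, cM⟩ := cast_d hm hF
  obtain ⟨irrSt, irrW, irrW'⟩ := irr_rows hm hF
  obtain ⟨-, -, -, gA, gP, gM⟩ := gen_rows hm hF
  obtain ⟨o1, o2, o3, o4, o5⟩ := deg_order hm hF
  have hq : ((2 ^ (2 * m + 1) : ℕ) : ℂ) = 2 * (2 ^ m) ^ 2 := hF ▸ cast_q hm hF
  have hq1 : ((2 ^ (2 * m + 1) - 1 : ℕ) : ℂ) = 2 * (2 ^ m) ^ 2 - 1 := cA
  have cd : ∀ (X : Cfsg.Sz F m → ℂ) (k : ℕ), X 1 = (k : ℂ) → charDegree X = k := fun X k h => by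
    simp [charDegree, h]
  have dSt : charDegree (mkCF hF (rowSt m) : Cfsg.Sz F m → ℂ) = (2 ^ (2 * m + 1)) ^ 2 :=
    cd _ _ (by rw [mkCF_one, Nat.cast_pow, hq]; rfl)
  have dW : charDegree (mkCF hF (rowW m) : Cfsg.Sz F m → ℂ) = 2 ^ m * (2 ^ (2 * m + 1) - 1) :=
    cd _ _ (by rw [mkCF_one, Nat.cast_mul, hq1, Nat.cast_pow, Nat.cast_ofNat]; rfl)
  have dW' : charDegree (mkCF hF (rowW' m) : Cfsg.Sz F m → ℂ) = 2 ^ m * (2 ^ (2 * m + 1) - 1) :=
    cd _ _ (by rw [mkCF_one, Nat.cast_mul, hq1, Nat.cast_pow, Nat.cast_ofNat]; rfl)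
  have dXA : ∀ ψ : ↥CA →* ℂˣ, charDegree (exX hF (rowA m) 1 ψ) = (2 ^ (2 * m + 1)) ^ 2 + 1 := fun ψ =>
    cd _ _ (by rw [exX_one hm hF hA' hA (good_A hm hF), Nat.cast_add, Nat.cast_pow, hq, degA]; push_cast; rfl)
  have dXP : ∀ ψ : ↥CP →* ℂˣ, charDegree (exX hF (rowP m) (-1) ψ) = dM m * (2 ^ (2 * m + 1) - 1) := fun ψ =>
    cd _ _ (by rw [exX_one hm hF hP' hP (good_P hm hF), Nat.cast_mul, cM, hq1, degP]; push_cast; rfl)
  have dXM : ∀ ψ : ↥CM' →* ℂˣ, charDegree (exX hF (rowM m) (-1) ψ) = dP m * (2 ^ (2 * m + 1) - 1) := fun ψ =>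
    cd _ _ (by rw [exX_one hm hF hM' hM (good_M hm hF), Nat.cast_mul, cP, hq1, degM]; push_cast; rfl)
  have hne : ∀ {d : ℕ} {C : Subgroup (Cfsg.Sz F m)}, d ∈ threeD m → C ∈ Tset F m d → ∃ ψ : ↥C →* ℂˣ, ψ ≠ 1 := by
    intro d C hd hC
    have h1 : 1 < Nat.card (↥C →* ℂˣ) := by
      rw [card_lin hm hF hd hC]; exact (tori_coprime hF hm hd hd).2.1
    haveI : Finite (↥C →* ℂˣ) := Nat.finite_of_card_ne_zero (by omega)
    haveI := Finite.one_lt_card_iff_nontrivial.1 h1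
    exact exists_ne 1
  ext d
  simp only [Set.mem_insert_iff, Set.mem_singleton_iff]
  constructor
  · rintro ⟨⟨χ, hχ⟩, rfl⟩
    rcases irr_cases hm hF hA hP hM hχ with rfl | rfl | rfl | rfl | ⟨ψ, -, rfl⟩ | ⟨ψ, -, rfl⟩ | ⟨ψ, -, rfl⟩
    · exact Or.inl (cd _ _ Nat.cast_one.symm)
    · exact Or.inr (Or.inl dSt)
    · exact Or.inr (Or.inr (Or.inl dW))
    · exact Or.inr (Or.inr (Or.inl dW'))
    · exact Or.inr (Or.inr (Or.inr (Or.inl (dXA ψ))))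
    · exact Or.inr (Or.inr (Or.inr (Or.inr (Or.inl (dXP ψ)))))
    · exact Or.inr (Or.inr (Or.inr (Or.inr (Or.inr (dXM ψ)))))
  · rintro (rfl | rfl | rfl | rfl | rfl | rfl)
    · exact ⟨⟨_, isIrrCharacter_one⟩, cd _ _ Nat.cast_one.symm⟩
    · exact ⟨⟨_, irrSt⟩, dSt⟩
    · exact ⟨⟨_, irrW⟩, dW⟩
    · obtain ⟨ψ, hψ⟩ := hne hA' hA
      exact ⟨⟨_, exX_irr hm hF hA' hA (good_A hm hF) gA (by linarith) hψ⟩, dXA ψ⟩
    · obtain ⟨ψ, hψ⟩ := hne hP' hP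
      exact ⟨⟨_, exX_irr hm hF hP' hP (good_P hm hF) gP (by linarith) hψ⟩, dXP ψ⟩
    · obtain ⟨ψ, hψ⟩ := hne hM' hM
      exact ⟨⟨_, exX_irr hm hF hM' hM (good_M hm hF) gM (by linarith) hψ⟩, dXM ψ⟩

/-- the degree graph -/
theorem degree_graph {S : Type*} [Group S] (e : S ≃* Cfsg.Sz F m) {q : ℕ} (hq : q = 2 ^ (2 * m + 1)) :
    degreePrimes S = {r : ℕ | r.Prime ∧ (r = 2 ∨ r ∣ (q - 1) * (q ^ 2 + 1))} ∧
      ∀ r s : ℕ, (degreeGraph S).Adj r s ↔ (r ≠ s ∧ r.Prime ∧ s.Prime ∧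
        ((r ∣ (q - 1) * (q ^ 2 + 1) ∧ s ∣ (q - 1) * (q ^ 2 + 1)) ∨ (r = 2 ∧ s ∣ q - 1) ∨ (s = 2 ∧ r ∣ q - 1))) := by
  subst hq
  have hdeg : charDegrees S = _ := (charDegrees_equiv e).trans (charDegrees_Sz hm hF)
  set q := 2 ^ (2 * m + 1) with hq
  have hprod : dP m * dM m = q ^ 2 + 1 := by have := tori_prod hF (m := m); rwa [hF] at this
  have hmem : ∀ {d : ℕ}, d ∈ charDegrees S ↔ d = 1 ∨ d = q ^ 2 ∨ d = 2 ^ m * (q - 1) ∨ d = q ^ 2 + 1 ∨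
      d = dM m * (q - 1) ∨ d = dP m * (q - 1) := by
    intro d; rw [hdeg]; simp
  have hbig : ∀ {d : ℕ}, d ∈ charDegrees S → d ∣ q ^ 2 ∨ d = 2 ^ m * (q - 1) ∨ d ∣ (q - 1) * (q ^ 2 + 1) := by
    intro d hd
    rcases hmem.1 hd with e | e | e | e | e | e
    · exact Or.inl (e ▸ one_dvd _)
    · exact Or.inl e.dvd
    · exact Or.inr (Or.inl e)
    · exact Or.inr (Or.inr (e ▸ dvd_mul_left _ _))
    · exact Or.inr (Or.inr (by rw [e, ← hprod, mul_comm (dP m), ← mul_assoc, mul_comm (q - 1) (dM m)]; exact dvd_mul_right _ _))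
    · exact Or.inr (Or.inr (by rw [e, ← hprod, ← mul_assoc, mul_comm (q - 1) (dP m)]; exact dvd_mul_right _ _))
  have two_only : ∀ {p : ℕ}, p.Prime → p ∣ q ^ 2 → p = 2 := fun {p} hp h =>
    (Nat.prime_dvd_prime_iff_eq hp Nat.prime_two).1 (hp.dvd_of_dvd_pow (hp.dvd_of_dvd_pow h))
  have hodd : ¬ 2 ∣ (q - 1) * (q ^ 2 + 1) := by
    have h1 : 2 ∣ q := dvd_pow_self 2 (by omega)
    have h2 : 1 ≤ q := Nat.one_le_two_pow
    intro h
    rcases Nat.prime_two.dvd_mul.1 h with h | h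
    · omega
    · exact Nat.prime_two.not_dvd_one ((Nat.dvd_add_right (dvd_pow h1 two_ne_zero)).1 h)
  have hw : 2 ∣ 2 ^ m := dvd_pow_self 2 (by omega)
  have pair_odd : ∀ {r s : ℕ}, r.Prime → s.Prime → r ≠ s → r ∣ (q - 1) * (q ^ 2 + 1) → s ∣ (q - 1) * (q ^ 2 + 1) →
      ∃ d ∈ charDegrees S, r * s ∣ d := by
    intro r s hr hs hrs h1 h2
    have hcop := (Nat.coprime_primes hr hs).2 hrs
    have cls : ∀ {p : ℕ}, p.Prime → p ∣ (q - 1) * (q ^ 2 + 1) → p ∣ q - 1 ∨ p ∣ dP m ∨ p ∣ dM m := by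
      intro p hp h
      rw [← hprod] at h
      rcases hp.dvd_mul.1 h with h | h
      · exact Or.inl h
      · exact Or.inr (hp.dvd_mul.1 h)
    have mP : dP m * (q - 1) ∈ charDegrees S := hmem.2 (by tauto)
    have mM : dM m * (q - 1) ∈ charDegrees S := hmem.2 (by tauto)
    have mA : q ^ 2 + 1 ∈ charDegrees S := hmem.2 (by tauto)
    rcases cls hr h1 with a | a | a <;> rcases cls hs h2 with b | b | b
    · exact ⟨_, mP, hcop.mul_dvd_of_dvd_of_dvd (a.mul_left _) (b.mul_left _)⟩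
    · exact ⟨_, mP, hcop.mul_dvd_of_dvd_of_dvd (a.mul_left _) (b.mul_right _)⟩
    · exact ⟨_, mM, hcop.mul_dvd_of_dvd_of_dvd (a.mul_left _) (b.mul_right _)⟩
    · exact ⟨_, mP, hcop.mul_dvd_of_dvd_of_dvd (a.mul_right _) (b.mul_left _)⟩
    · exact ⟨_, mP, hcop.mul_dvd_of_dvd_of_dvd (a.mul_right _) (b.mul_right _)⟩
    · exact ⟨_, mA, hprod ▸ hcop.mul_dvd_of_dvd_of_dvd (a.mul_right _) (b.mul_left _)⟩
    · exact ⟨_, mM, hcop.mul_dvd_of_dvd_of_dvd (a.mul_right _) (b.mul_left _)⟩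
    · exact ⟨_, mA, hprod ▸ hcop.mul_dvd_of_dvd_of_dvd (a.mul_left _) (b.mul_right _)⟩
    · exact ⟨_, mM, hcop.mul_dvd_of_dvd_of_dvd (a.mul_right _) (b.mul_right _)⟩
  constructor
  · ext p
    simp only [degreePrimes, Set.mem_setOf_eq]
    refine and_congr_right fun hp => ⟨?_, ?_⟩
    · rintro ⟨d, hd, hpd⟩
      rcases hbig hd with h | h | h
      · exact Or.inl (two_only hp (hpd.trans h))
      · rw [h] at hpd
        rcases hp.dvd_mul.1 hpd with h | h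
        · exact Or.inl ((Nat.prime_dvd_prime_iff_eq hp Nat.prime_two).1 (hp.dvd_of_dvd_pow h))
        · exact Or.inr (h.mul_right _)
      · exact Or.inr (hpd.trans h)
    · rintro (rfl | h)
      · exact ⟨_, hmem.2 (Or.inr (Or.inr (Or.inl rfl))), hw.mul_right _⟩
      · rw [← hprod] at h
        rcases hp.dvd_mul.1 h with h | h
        · exact ⟨_, hmem.2 (Or.inr (Or.inr (Or.inl rfl))), h.mul_left _⟩
        · exact ⟨_, hmem.2 (Or.inr (Or.inr (Or.inr (Or.inl rfl)))), hprod ▸ h⟩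
  · intro r s
    show (r ≠ s ∧ r.Prime ∧ s.Prime ∧ ∃ d ∈ charDegrees S, r * s ∣ d) ↔ _
    refine and_congr_right fun hrs => and_congr_right fun hr => and_congr_right fun hs => ?_
    constructor
    · rintro ⟨d, hd, hpd⟩
      rcases hbig hd with h | h | h
      · exact absurd ((two_only hr ((dvd_mul_right r s).trans (hpd.trans h))).trans
          (two_only hs ((dvd_mul_left s r).trans (hpd.trans h))).symm) hrs
      · rw [h] at hpd
        have split : ∀ {p : ℕ}, p.Prime → p ∣ 2 ^ m * (q - 1) → p = 2 ∨ p ∣ q - 1 := fun {p} hp h =>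
          (hp.dvd_mul.1 h).imp (fun h => (Nat.prime_dvd_prime_iff_eq hp Nat.prime_two).1 (hp.dvd_of_dvd_pow h)) id
        rcases split hr ((dvd_mul_right r s).trans hpd) with a | a <;>
          rcases split hs ((dvd_mul_left s r).trans hpd) with b | b
        · exact absurd (a.trans b.symm) hrs
        · exact Or.inr (Or.inl ⟨a, b⟩)
        · exact Or.inr (Or.inr ⟨b, a⟩)
        · exact Or.inl ⟨a.mul_right _, b.mul_right _⟩
      · exact Or.inl ⟨(dvd_mul_right r s).trans (hpd.trans h), (dvd_mul_left s r).trans (hpd.trans h)⟩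
    · rintro (⟨h1, h2⟩ | ⟨rfl, h2⟩ | ⟨rfl, h2⟩)
      · exact pair_odd hr hs hrs h1 h2
      · exact ⟨_, hmem.2 (Or.inr (Or.inr (Or.inl rfl))), mul_dvd_mul hw h2⟩
      · exact ⟨_, hmem.2 (Or.inr (Or.inr (Or.inl rfl))), by rw [mul_comm r]; exact mul_dvd_mul hw h2⟩

end CfsgLib.Lie.Suz
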