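import Cfsg.Agent.Lib.Lie.Suz.Char.Orbits

/-!
# The exceptional characters attached to a torus
-/

set_option autoImplicit false
set_option linter.unusedSectionVars false

namespace CfsgLib.Lie.Suz

open Cfsg CfsgLib.Char
open scoped MatrixGroups ComplexConjugate

variable {F : Type*} [Field F] [Fintype F] {m : ℕ}
variable (hm : 1 ≤ m) (hF : Fintype.card F = 2 ^ (2 * m + 1))

/-- an exceptional character -/
noncomputable def exX [Fintype (Cfsg.Sz F m)] {C : Subgroup (Cfsg.Sz F m)} (R : Row) (σ : ℤ)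
    (ψ : ↥C →* ℂˣ) (g : Cfsg.Sz F m) : ℂ :=
  mkCF hF R g + (σ : ℂ) * indFun C (fun c => (ψ c : ℂ)) g

/-- the row an exceptional family is built on -/
structure GoodRow (F : Type*) [Field F] [Fintype F] (m d : ℕ) (R : Row) (σ : ℤ) (deg : ℝ) (v : ℝ) : Prop where
  sign : σ = 1 ∨ σ = -1
  zero : R.cA = 0 ∧ R.cP = 0 ∧ R.cM = 0 ∧ R.s4 = 0
  four : R.c4 = σ
  two : R.c2 = v
  one : R.c1 + (σ : ℂ) * ((Fintype.card F : ℂ) ^ 2 * ((Fintype.card F : ℂ) ^ 2 + 1) *
    ((Fintype.card F : ℂ) - 1) / (d : ℂ)) = deg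
  norm : (deg : ℂ) ^ 2 + ((Fintype.card F : ℂ) ^ 2 + 1) * ((Fintype.card F : ℂ) - 1) * (v : ℂ) ^ 2 +
    ((Fintype.card F : ℂ) ^ 2 + 1) * ((Fintype.card F : ℂ) ^ 2 - Fintype.card F) =
      (nOf m d : ℕ) * ((Fintype.card F : ℂ) ^ 2 * ((Fintype.card F : ℂ) ^ 2 + 1) *
        ((Fintype.card F : ℂ) - 1)) / (d : ℂ)

include hm hF

variable [Fintype (Cfsg.Sz F m)]

/-- a sum over the group of a class function supported on one torus type -/
theorem sum_one_type {f : Cfsg.Sz F m → ℂ} (hf : IsClassFunction _ f) {d : ℕ} (hd : d ∈ threeD m)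
    {C : Subgroup (Cfsg.Sz F m)} [Fintype ↥C] (hC : C ∈ Tset F m d)
    (hz : ∀ g, ¬ IsTwo g → Nat.card ↥(Subgroup.centralizer ({g} : Set (Cfsg.Sz F m))) ≠ d → f g = 0) :
    ∑ g, f g = f 1 + ((Fintype.card F : ℂ) ^ 2 + 1) * ((Fintype.card F : ℂ) - 1) * f (TS hF 0 1) +
      ((Fintype.card F : ℂ) ^ 2 + 1) * ((Fintype.card F : ℂ) ^ 2 - Fintype.card F) / 2 *
        (f (TS hF 1 0) + f (TS hF 1 1)) +
      (Nat.card (Cfsg.Sz F m) : ℂ) * ((∑ x : ↥C, f x) - f 1) / ((nOf m d : ℕ) * (d : ℕ)) := by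
  classical
  obtain ⟨hA', hP', hM', n1, n2, n3⟩ := dvd_tori hm hF
  obtain ⟨CA, hA, -⟩ := Tset_rep hm hF hA'
  obtain ⟨CP, hP, -⟩ := Tset_rep hm hF hP'
  obtain ⟨CM', hM, -⟩ := Tset_rep hm hF hM'
  have hvan : ∀ e, e ≠ d → ∀ D : Subgroup (Cfsg.Sz F m), ∀ [Fintype ↥D], D ∈ Tset F m e →
      (∑ x : ↥D, f x) - f 1 = 0 := by
    intro e he D _ hD
    rw [Fintype.sum_eq_single (1 : ↥D) fun x hx => ?_, OneMemClass.coe_one, sub_self]
    obtain ⟨z, hz', rfl, hzc⟩ := hD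
    obtain ⟨h1, h2⟩ := (nontwo_centralizer hm hF hz').2 x x.2 fun e => hx (Subtype.ext e)
    exact hz _ h1 (by rw [h2, hzc]; exact he)
  haveI : Fintype ↥CA := Fintype.ofFinite _
  haveI : Fintype ↥CP := Fintype.ofFinite _
  haveI : Fintype ↥CM' := Fintype.ofFinite _
  simp only [threeD, Set.mem_insert_iff, Set.mem_singleton_iff] at hd
  rcases hd with rfl | rfl | rfl
  · rw [sum_classes hm hF hf hC hP hM, hvan _ n1.symm CP hP, hvan _ n2.symm CM' hM]
    simp only [nOf, if_true]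
    push_cast
    ring
  · rw [sum_classes hm hF hf hA hC hM, hvan _ n1 CA hA, hvan _ n3.symm CM' hM]
    simp only [nOf, if_neg n1.symm]
    push_cast
    ring
  · rw [sum_classes hm hF hf hA hP hC, hvan _ n2 CA hA, hvan _ n3 CP hP]
    simp only [nOf, if_neg n2.symm]
    push_cast
    ring

variable {d : ℕ} {C : Subgroup (Cfsg.Sz F m)} (hd : d ∈ threeD m) (hC : C ∈ Tset F m d)
variable {R : Row} {σ : ℤ} {deg v : ℝ}

include hd hC

theorem index_C : (C.index : ℂ) =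
    (Fintype.card F : ℂ) ^ 2 * ((Fintype.card F : ℂ) ^ 2 + 1) * ((Fintype.card F : ℂ) - 1) / (d : ℂ) := by
  rw [eq_div_iff (Tset_cast_ne hm hF hd hC), ← card_group_C hm hF, ← Subgroup.index_mul_card C,
    Tset_card hm hF hd hC, Nat.cast_mul]

theorem exX_one (h : GoodRow F m d R σ deg v) (ψ : ↥C →* ℂˣ) : exX hF R σ ψ 1 = (deg : ℂ) := by
  haveI : Fintype ↥C := Fintype.ofFinite _
  rw [exX, mkCF_one, indFun_one, map_one, Units.val_one, mul_one, index_C hm hF hd hC, h.one]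

theorem exX_invol (h : GoodRow F m d R σ deg v) (ψ : ↥C →* ℂˣ) {g : Cfsg.Sz F m} (hg : orderOf g = 2) :
    exX hF R σ ψ g = (v : ℂ) := by
  haveI : Fintype ↥C := Fintype.ofFinite _
  haveI : Fintype ↥(Subgroup.normalizer (C : Set (Cfsg.Sz F m))) := Fintype.ofFinite _
  obtain ⟨h1, h2⟩ := isTwo_of_order hF (Or.inl hg)
  rw [exX, mkCF_two hF R hg, h.two, indFun_zero_off hm hF hd hC _ h2 (Or.inl h1), mul_zero, add_zero]

theorem exX_four (h : GoodRow F m d R σ deg v) (ψ : ↥C →* ℂˣ) {g : Cfsg.Sz F m} (hg : orderOf g = 4) :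
    exX hF R σ ψ g = (σ : ℂ) := by
  haveI : Fintype ↥C := Fintype.ofFinite _
  haveI : Fintype ↥(Subgroup.normalizer (C : Set (Cfsg.Sz F m))) := Fintype.ofFinite _
  obtain ⟨h1, h2⟩ := isTwo_of_order hF (Or.inr hg)
  rw [exX, mkCF_four hF R hg, h.zero.2.2.2, h.four, indFun_zero_off hm hF hd hC _ h2 (Or.inl h1)]
  ring

theorem exX_off (h : GoodRow F m d R σ deg v) (ψ : ↥C →* ℂˣ) {g : Cfsg.Sz F m} (hg : ¬ IsTwo g)
    (hc : Nat.card ↥(Subgroup.centralizer ({g} : Set (Cfsg.Sz F m))) ≠ d) : exX hF R σ ψ g = 0 := by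
  haveI : Fintype ↥C := Fintype.ofFinite _
  haveI : Fintype ↥(Subgroup.normalizer (C : Set (Cfsg.Sz F m))) := Fintype.ofFinite _
  rw [exX, mkCF_nontwo hF R hg, indFun_zero_off hm hF hd hC _ (fun e => hg ⟨0, by rw [e, one_pow]⟩) (Or.inr hc),
    h.zero.1, h.zero.2.1, h.zero.2.2.1]
  simp

theorem exX_torus [Fintype ↥(Subgroup.normalizer (C : Set (Cfsg.Sz F m)))]
    (h : GoodRow F m d R σ deg v) (ψ : ↥C →* ℂˣ) {x : ↥C} (hx : x ≠ 1) :
    exX hF R σ ψ (x : Cfsg.Sz F m) = (σ : ℂ) * ((d : ℂ)⁻¹ * ∑ y, ((ψ.comp (cN C y)) x : ℂ)) := by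
  haveI : Fintype ↥C := Fintype.ofFinite _
  rw [exX, mkCF_torus hm hF R hC x.2 (fun e => hx (Subtype.ext e)), indFun_torus hm hF hd hC ψ hx, Row.tor,
    h.zero.1, h.zero.2.1, h.zero.2.2.1]
  simp

theorem exX_class (ψ : ↥C →* ℂˣ) : IsClassFunction _ (exX hF R σ ψ) := fun g h => by
  rw [exX, exX, mkCF_class hF R g h, isClassFunction_indFun C _ g h]

theorem inner_exX (h : GoodRow F m d R σ deg v) {ψ : ↥C →* ℂˣ} (hψ : ψ ≠ 1) (φ : ↥C →* ℂˣ)
    [Decidable (∃ y, φ = ψ.comp (cN C y))] :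
    classInner (exX hF R σ ψ) (exX hF R σ φ) = if ∃ y, φ = ψ.comp (cN C y) then 1 else 0 := by
  classical
  haveI : Fintype ↥C := Fintype.ofFinite _
  haveI : Fintype ↥(Subgroup.normalizer (C : Set (Cfsg.Sz F m))) := Fintype.ofFinite _
  have hG : (Nat.card (Cfsg.Sz F m) : ℂ) ≠ 0 := card_ne_zero'
  apply mul_left_cancel₀ hG
  rw [classInner, mul_inv_cancel_left₀ hG,
    sum_one_type hm hF (fun g k => by simp only [exX_class hm hF hd hC ψ g k, exX_class hm hF hd hC φ g k])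
      hd hC fun g hg hc => by rw [exX_off hm hF hd hC h ψ hg hc, zero_mul]]
  have hσ : (σ : ℂ) * σ = 1 := by rcases h.sign with e | e <;> rw [e] <;> norm_num
  have htor : (∑ x : ↥C, exX hF R σ ψ x * conj (exX hF R σ φ x)) -
      exX hF R σ ψ 1 * conj (exX hF R σ φ (1 : Cfsg.Sz F m)) =
        (d : ℂ)⁻¹ * (if ∃ y, φ = ψ.comp (cN C y) then nOf m d * d * d else 0 : ℕ) - (nOf m d : ℕ) * (nOf m d : ℕ) := by
    rw [← card_pairs hm hF hd hC hψ φ, ← sum_orbit_mul hm hF hd hC ψ φ]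
    have e1 := Finset.sum_erase_eq_sub (f := fun x : ↥C => exX hF R σ ψ x * conj (exX hF R σ φ x))
      (Finset.mem_univ (1 : ↥C))
    have e2 := Finset.sum_erase_eq_sub (f := fun x : ↥C => ((d : ℂ)⁻¹ * ∑ y, ((ψ.comp (cN C y)) x : ℂ)) *
      conj ((d : ℂ)⁻¹ * ∑ z, ((φ.comp (cN C z)) x : ℂ))) (Finset.mem_univ (1 : ↥C))
    simp only [OneMemClass.coe_one, indFun_torus_one hm hF hd hC, map_natCast] at e1 e2
    rw [← e1, ← e2]
    refine Finset.sum_congr rfl fun x hx => ?_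
    rw [exX_torus hm hF hd hC h ψ (Finset.mem_erase.1 hx).1, exX_torus hm hF hd hC h φ (Finset.mem_erase.1 hx).1,
      map_mul, map_intCast, mul_mul_mul_comm, hσ, one_mul]
  rw [htor]
  simp only [exX_one hm hF hd hC h, exX_invol hm hF hd hC h _ (TS_order_two hF (one_ne_zero (α := F))),
    exX_four hm hF hd hC h _ (TS_order_four hF (one_ne_zero (α := F)) _), map_intCast, Complex.conj_ofReal, hσ,
    card_group_C hm hF]
  have hd0 := Tset_cast_ne hm hF hd hC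
  have hn0 : ((nOf m d : ℕ) : ℂ) ≠ 0 := by
    refine Nat.cast_ne_zero.2 ?_
    unfold nOf; split_ifs <;> norm_num
  have hn := h.norm
  generalize hN : nOf m d = N at hn hn0 ⊢
  have key1 : ∀ G0 : ℂ, G0 * ((d : ℂ)⁻¹ * ((N * d * d : ℕ) : ℂ) - (N : ℂ) * (N : ℂ)) / ((N : ℂ) * (d : ℂ)) =
      G0 - (N : ℂ) * G0 / (d : ℂ) := fun G0 => by push_cast; field_simp
  have key0 : ∀ G0 : ℂ, G0 * ((d : ℂ)⁻¹ * ((0 : ℕ) : ℂ) - (N : ℂ) * (N : ℂ)) / ((N : ℂ) * (d : ℂ)) =
      - ((N : ℂ) * G0 / (d : ℂ)) := fun G0 => by push_cast; field_simp; ring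
  split_ifs
  · rw [key1]; linear_combination hn
  · rw [key0]; linear_combination hn

theorem exX_conj (ψ : ↥C →* ℂˣ) (y : ↥(Subgroup.normalizer (C : Set (Cfsg.Sz F m)))) :
    exX hF R σ (ψ.comp (cN C y)) = exX hF R σ ψ := by
  haveI : Fintype ↥C := Fintype.ofFinite _
  haveI : Fintype ↥(Subgroup.normalizer (C : Set (Cfsg.Sz F m))) := Fintype.ofFinite _
  funext g
  rw [exX, exX, indFun_conj hm hF hd hC ψ y]

theorem exX_irr (h : GoodRow F m d R σ deg v) (hR : IsGeneralizedCharacter _ (mkCF hF R : Cfsg.Sz F m → ℂ))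
    (hdeg : 0 < deg) {ψ : ↥C →* ℂˣ} (hψ : ψ ≠ 1) : IsIrrCharacter _ (exX hF R σ ψ) := by
  classical
  haveI : Fintype ↥C := Fintype.ofFinite _
  haveI : Fintype (IrrCharacter (Cfsg.Sz F m)) := Fintype.ofFinite _
  refine isIrr_of_norm_one ?_ ?_ ?_
  · have e : exX hF R σ ψ = mkCF hF R + (σ : ℂ) • indFun C (fun c => (ψ c : ℂ)) := rfl
    rw [e]
    exact isGeneralizedCharacter_add hR (isGeneralizedCharacter_zsmul (isGeneralizedCharacter_indFun C
      (isGeneralizedCharacter_of_isCharacter (isCharacter_of_isIrr (isIrrCharacter_lin ψ)))) σ)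
  · rw [inner_exX hm hF hd hC h hψ ψ, if_pos ⟨1, (cN_one C ψ).symm⟩]
  · rw [exX_one hm hF hd hC h, Complex.ofReal_re]; exact hdeg

/-- the family as a finite set -/
theorem exists_family (h : GoodRow F m d R σ deg v) (hR : IsGeneralizedCharacter _ (mkCF hF R : Cfsg.Sz F m → ℂ))
    (hdeg : 0 < deg) [Fintype (↥C →* ℂˣ)] [DecidableEq (↥C →* ℂˣ)] :
    ∃ S : Finset (Cfsg.Sz F m → ℂ), (∀ X ∈ S, IsIrrCharacter _ X ∧ X 1 = (deg : ℂ)) ∧
      ((nOf m d : ℕ) : ℂ) * S.card = (d : ℂ) - 1 ∧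
      ∀ f : (Cfsg.Sz F m → ℂ) → ℂ,
        ((nOf m d : ℕ) : ℂ) * ∑ X ∈ S, f X = ∑ ψ ∈ Finset.univ.erase (1 : ↥C →* ℂˣ), f (exX hF R σ ψ) := by
  classical
  haveI : Fintype ↥(Subgroup.normalizer (C : Set (Cfsg.Sz F m))) := Fintype.ofFinite _
  set T := Finset.univ.erase (1 : ↥C →* ℂˣ) with hT
  set S := T.image (exX hF R σ) with hS
  have key : ∀ ψ ∈ T, (T.filter fun φ => exX hF R σ φ = exX hF R σ ψ).card = nOf m d := by
    intro ψ hψ
    have hψ1 := (Finset.mem_erase.1 hψ).1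
    have hfil : (T.filter fun φ => exX hF R σ φ = exX hF R σ ψ) =
        Finset.univ.image fun y : ↥(Subgroup.normalizer (C : Set (Cfsg.Sz F m))) => ψ.comp (cN C y) := by
      ext φ
      simp only [Finset.mem_filter, Finset.mem_image, Finset.mem_univ, true_and, hT, Finset.mem_erase, and_true]
      constructor
      · rintro ⟨-, e⟩
        have := inner_exX hm hF hd hC h hψ1 φ
        rw [e, inner_exX hm hF hd hC h hψ1 ψ, if_pos ⟨1, (cN_one C ψ).symm⟩] at this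
        split_ifs at this with hy
        · obtain ⟨y, hy⟩ := hy; exact ⟨y, hy.symm⟩
        · exact absurd this one_ne_zero
      · rintro ⟨y, rfl⟩
        refine ⟨fun e => hψ1 ?_, exX_conj hm hF hd hC ψ y⟩
        have := congrArg (fun t : ↥C →* ℂˣ => t.comp (cN C y⁻¹)) e
        simp only [cN_mul, inv_mul_cancel, cN_one, MonoidHom.one_comp] at this
        exact this
    have hfib : ∀ φ ∈ Finset.univ.image fun y : ↥(Subgroup.normalizer (C : Set (Cfsg.Sz F m))) => ψ.comp (cN C y),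
        (Finset.univ.filter fun y : ↥(Subgroup.normalizer (C : Set (Cfsg.Sz F m))) => ψ.comp (cN C y) = φ).card = d := by
      intro φ hφ
      obtain ⟨y0, -, rfl⟩ := Finset.mem_image.1 hφ
      haveI : Fintype ↥C := Fintype.ofFinite _
      rw [← Tset_card hm hF hd hC, Nat.card_eq_fintype_card, ← Finset.card_univ]
      symm
      refine Finset.card_bij (fun c _ => y0 * ⟨(c : Cfsg.Sz F m), Subgroup.le_normalizer c.2⟩) ?_ ?_ ?_
      · intro c _
        rw [Finset.mem_filter]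
        exact ⟨Finset.mem_univ _, by rw [← cN_mul, (stab_lin hm hF hd hC hψ1).2 c.2]⟩
      · intro c _ c' _ e
        exact Subtype.ext (congrArg Subtype.val (mul_left_cancel e) :)
      · intro y hy
        have e := congrArg (fun t : ↥C →* ℂˣ => t.comp (cN C y0⁻¹)) (Finset.mem_filter.1 hy).2
        simp only [cN_mul, inv_mul_cancel, cN_one] at e
        refine ⟨⟨_, (stab_lin hm hF hd hC hψ1).1 e⟩, Finset.mem_univ _, Subtype.ext ?_⟩
        simp
    have h2 := Finset.card_eq_sum_card_image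
      (fun y : ↥(Subgroup.normalizer (C : Set (Cfsg.Sz F m))) => ψ.comp (cN C y)) Finset.univ
    rw [Finset.sum_congr rfl hfib, Finset.sum_const, smul_eq_mul, Finset.card_univ, ← Nat.card_eq_fintype_card,
      card_normalizer hm hF hd hC] at h2
    rw [hfil]
    exact (Nat.eq_of_mul_eq_mul_right (by have := (tori_coprime hF hm hd hd).2.1; omega) h2).symm
  have hsum : ∀ f : (Cfsg.Sz F m → ℂ) → ℂ,
      ((nOf m d : ℕ) : ℂ) * ∑ X ∈ S, f X = ∑ ψ ∈ T, f (exX hF R σ ψ) := by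
    intro f
    rw [Finset.mul_sum, hS]
    symm
    rw [← Finset.sum_fiberwise_of_maps_to (g := exX hF R σ) fun ψ hψ => Finset.mem_image_of_mem _ hψ]
    refine Finset.sum_congr rfl fun X hX => ?_
    obtain ⟨ψ, hψ, rfl⟩ := Finset.mem_image.1 hX
    rw [Finset.sum_congr rfl (g := fun _ => f (exX hF R σ ψ)) fun φ hφ => by rw [(Finset.mem_filter.1 hφ).2],
      Finset.sum_const, key ψ hψ, nsmul_eq_mul]
  refine ⟨S, ?_, ?_, hsum⟩
  · intro X hX
    obtain ⟨ψ, hψ, rfl⟩ := Finset.mem_image.1 hX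
    exact ⟨exX_irr hm hF hd hC h hR hdeg (Finset.mem_erase.1 hψ).1, exX_one hm hF hd hC h ψ⟩
  · have := hsum fun _ => 1
    simp only [Finset.sum_const, nsmul_eq_mul, mul_one] at this
    rw [this, hT, Finset.card_erase_of_mem (Finset.mem_univ _), Finset.card_univ, ← Nat.card_eq_fintype_card,
      card_lin hm hF hd hC, Nat.cast_sub (tori_coprime hF hm hd hd).2.1.le, Nat.cast_one]

end CfsgLib.Lie.Suz
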