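import Cfsg.Agent.Lib.Lie.Suz.Char.Build
import Mathlib.GroupTheory.FiniteAbelian.Duality

/-!
# Linear characters of the tori and their induced characters
-/

set_option autoImplicit false
set_option linter.unusedSectionVars false

namespace CfsgLib.Lie.Suz

open Cfsg CfsgLib.Char
open scoped MatrixGroups ComplexConjugate

variable {F : Type*} [Field F] [Fintype F] {m : ℕ}

/-- the normaliser of a torus acting on it -/
noncomputable def cN (C : Subgroup (Cfsg.Sz F m))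
    (y : ↥(Subgroup.normalizer (C : Set (Cfsg.Sz F m)))) : ↥C →* ↥C :=
  MonoidHom.mk' (fun x => ⟨(y : Cfsg.Sz F m)⁻¹ * x * y, (Subgroup.mem_normalizer_iff''.1 y.2 _).1 x.2⟩)
    fun a b => Subtype.ext (by
      show (y : Cfsg.Sz F m)⁻¹ * ((a : Cfsg.Sz F m) * b) * y =
        (y : Cfsg.Sz F m)⁻¹ * a * y * ((y : Cfsg.Sz F m)⁻¹ * b * y)
      group)

theorem cN_mul (C : Subgroup (Cfsg.Sz F m)) (y z : ↥(Subgroup.normalizer (C : Set (Cfsg.Sz F m))))
    (ψ : ↥C →* ℂˣ) : (ψ.comp (cN C y)).comp (cN C z) = ψ.comp (cN C (z * y)) := by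
  refine MonoidHom.ext fun x => ?_
  show ψ _ = ψ _
  congr 1
  exact Subtype.ext (by
    show (y : Cfsg.Sz F m)⁻¹ * ((z : Cfsg.Sz F m)⁻¹ * x * z) * y = ((z : Cfsg.Sz F m) * y)⁻¹ * x * ((z : Cfsg.Sz F m) * y)
    group)

theorem cN_one (C : Subgroup (Cfsg.Sz F m)) (ψ : ↥C →* ℂˣ) : ψ.comp (cN C 1) = ψ := by
  refine MonoidHom.ext fun x => ?_
  show ψ _ = ψ x
  congr 1
  exact Subtype.ext (by show (1 : Cfsg.Sz F m)⁻¹ * x * 1 = x; group)

/-- the sum of a non-trivial linear character -/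
theorem sum_lin_eq_zero {A : Type*} [Group A] [Fintype A] {ψ : A →* ℂˣ} (h : ψ ≠ 1) :
    ∑ x, (ψ x : ℂ) = 0 := by
  obtain ⟨a, ha⟩ : ∃ a, ψ a ≠ 1 := by
    by_contra hc
    push Not at hc
    exact h (MonoidHom.ext hc)
  have e : ∑ x, (ψ x : ℂ) = (ψ a : ℂ) * ∑ x, (ψ x : ℂ) := by
    rw [Finset.mul_sum]
    exact (Fintype.sum_equiv (Equiv.mulLeft a) (fun x => (ψ a : ℂ) * (ψ x : ℂ)) (fun x => (ψ x : ℂ))
      fun x => by simp).symm
  have h1 : ((ψ a : ℂ) - 1) * ∑ x, (ψ x : ℂ) = 0 := by rw [sub_mul, one_mul, ← e, sub_self]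
  exact (mul_eq_zero.1 h1).resolve_left (sub_ne_zero.2 (Units.val_eq_one.not.2 ha))

theorem conj_lin {A : Type*} [Group A] [Finite A] (ψ : A →* ℂˣ) (x : A) :
    conj (ψ x : ℂ) = ((ψ x)⁻¹ : ℂˣ) := by
  rw [conj_eq_inv_of_pow_eq_one (orderOf_pos x).ne' (by
    rw [← Units.val_pow_eq_pow_val, ← map_pow, pow_orderOf_eq_one, map_one, Units.val_one]),
    Units.val_inv_eq_inv_val]

variable (hm : 1 ≤ m) (hF : Fintype.card F = 2 ^ (2 * m + 1))
variable {d : ℕ} {C : Subgroup (Cfsg.Sz F m)} (hd : d ∈ threeD m) (hC : C ∈ Tset F m d)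

include hm hF hd hC

theorem Tset_card : Nat.card ↥C = d := by obtain ⟨z, -, rfl, h⟩ := hC; exact h

theorem Tset_cyclic : IsCyclic ↥C := by
  obtain ⟨z, hz, rfl, -⟩ := hC
  exact (nontwo_centralizer hm hF hz).1

theorem Tset_centralizer {x : Cfsg.Sz F m} (hx : x ∈ C) (hx1 : x ≠ 1) :
    ¬ IsTwo x ∧ Subgroup.centralizer ({x} : Set (Cfsg.Sz F m)) = C := by
  obtain ⟨z, hz, rfl, -⟩ := hC
  exact (nontwo_centralizer hm hF hz).2 x hx hx1

theorem Tset_cast_ne : (d : ℂ) ≠ 0 := by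
  have : 1 < d := (tori_coprime hF hm hd hd).2.1
  exact Nat.cast_ne_zero.2 (by omega)

theorem card_normalizer : Nat.card ↥(Subgroup.normalizer (C : Set (Cfsg.Sz F m))) = nOf m d * d :=
  Tset_normalizer hm hF hd hC

/-- no element outside the torus fixes a non-trivial character of it -/
theorem stab_lin {ψ : ↥C →* ℂˣ} (hψ : ψ ≠ 1) {y : ↥(Subgroup.normalizer (C : Set (Cfsg.Sz F m)))} :
    ψ.comp (cN C y) = ψ ↔ (y : Cfsg.Sz F m) ∈ C := by
  haveI := Tset_cyclic hm hF hd hC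
  letI : CommGroup ↥C := IsCyclic.commGroup
  constructor
  · intro h
    by_contra hy
    let f : ↥C →* ↥C := MonoidHom.mk' (fun x => cN C y x * x⁻¹) fun a b => by
      rw [map_mul, mul_inv, mul_mul_mul_comm]
    have hinj : Function.Injective f := by
      rw [injective_iff_map_eq_one]
      intro x hx
      have e : (y : Cfsg.Sz F m)⁻¹ * x * y = x := congrArg Subtype.val (mul_inv_eq_one.1 hx : cN C y x = x)
      by_contra hx1
      refine hy ((SetLike.ext_iff.1 (Tset_centralizer hm hF hd hC x.2 fun e => hx1 (Subtype.ext e)).2 _).1 ?_)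
      refine Subgroup.mem_centralizer_singleton_iff.2 ?_
      calc (y : Cfsg.Sz F m) * x = y * ((y : Cfsg.Sz F m)⁻¹ * x * y) := by rw [e]
        _ = x * y := by group
    obtain hsur := Finite.injective_iff_surjective.1 hinj
    refine hψ (MonoidHom.ext fun z => ?_)
    obtain ⟨x, rfl⟩ := hsur z
    show ψ (cN C y x * x⁻¹) = 1
    rw [map_mul, map_inv, show ψ (cN C y x) = ψ x from DFunLike.congr_fun h x, mul_inv_cancel]
  · intro hy
    refine MonoidHom.ext fun x => ?_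
    show ψ (cN C y x) = ψ x
    congr 1
    apply Subtype.ext
    have e : (⟨y, hy⟩ : ↥C)⁻¹ * x * ⟨y, hy⟩ = x := by rw [mul_comm, mul_inv_cancel_left]
    exact congrArg Subtype.val e

/-- the number of linear characters -/
theorem card_lin : Nat.card (↥C →* ℂˣ) = d := by
  haveI := Tset_cyclic hm hF hd hC
  letI : CommGroup ↥C := IsCyclic.commGroup
  rw [CommGroup.card_monoidHom_of_hasEnoughRootsOfUnity, Tset_card hm hF hd hC]

section induced

variable [Fintype (Cfsg.Sz F m)] [Fintype ↥C] [Fintype ↥(Subgroup.normalizer (C : Set (Cfsg.Sz F m)))]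

/-- the induced character at an element of the torus -/
theorem indFun_torus (ψ : ↥C →* ℂˣ) {x : ↥C} (hx : x ≠ 1) :
    indFun C (fun c => (ψ c : ℂ)) (x : Cfsg.Sz F m) = (d : ℂ)⁻¹ * ∑ y, ((ψ.comp (cN C y)) x : ℂ) := by
  classical
  rw [indFun, Tset_card hm hF hd hC]
  congr 1
  rw [← Finset.sum_subset (Finset.subset_univ (Finset.univ.filter fun y : Cfsg.Sz F m =>
      y ∈ Subgroup.normalizer (C : Set (Cfsg.Sz F m)))) fun y _ hy => ?_,
    Finset.sum_subtype (Finset.univ.filter fun y : Cfsg.Sz F m =>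
      y ∈ Subgroup.normalizer (C : Set (Cfsg.Sz F m))) (p := fun y => y ∈ Subgroup.normalizer (C : Set (Cfsg.Sz F m)))
      (fun y => by simp) (F := inferInstance)]
  · refine Finset.sum_congr rfl fun y _ => ?_
    rw [extendByZero_mem C _ ((Subgroup.mem_normalizer_iff''.1 y.2 _).1 x.2)]
    rfl
  · refine extendByZero_not_mem C _ fun h => hy (Finset.mem_filter.2 ⟨Finset.mem_univ _, ?_⟩)
    have hx1 : (x : Cfsg.Sz F m) ≠ 1 := fun e => hx (Subtype.ext e)
    have h2 := (Tset_centralizer hm hF hd hC h fun e => hx1 (by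
      have e' := congrArg (fun t => y * t * y⁻¹) e
      simpa [mul_assoc] using e')).2
    have h3 : (Subgroup.centralizer ({(x : Cfsg.Sz F m)} : Set (Cfsg.Sz F m))).map
        (MulAut.conj y⁻¹).toMonoidHom = C := by
      rw [← centralizer_conj, inv_inv]; exact h2
    rw [(Tset_centralizer hm hF hd hC x.2 hx1).2] at h3
    refine Subgroup.mem_normalizer_iff''.2 fun u => ⟨fun hu => ?_, fun hu => ?_⟩
    · rw [← h3, mem_conjMap]; simpa [mul_assoc] using hu
    · rw [← h3, mem_conjMap] at hu; simpa [mul_assoc] using hu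

/-- the induced character vanishes away from the torus type -/
theorem indFun_zero_off (θ : ↥C → ℂ) {g : Cfsg.Sz F m} (hg1 : g ≠ 1)
    (h : IsTwo g ∨ Nat.card ↥(Subgroup.centralizer ({g} : Set (Cfsg.Sz F m))) ≠ d) : indFun C θ g = 0 := by
  classical
  rw [indFun, Finset.sum_eq_zero, mul_zero]
  intro y _
  refine extendByZero_not_mem C θ fun hy => ?_
  have hy1 : y⁻¹ * g * y ≠ 1 := fun e => hg1 (by
    calc g = y * (y⁻¹ * g * y) * y⁻¹ := by group
      _ = 1 := by rw [e, mul_one, mul_inv_cancel])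
  obtain ⟨h1, h2⟩ := Tset_centralizer hm hF hd hC hy hy1
  rcases h with h | h
  · exact h1 (by simpa using h.conj y⁻¹)
  · apply h
    have h3 := congrArg (fun K : Subgroup (Cfsg.Sz F m) => Nat.card ↥K) h2
    rw [show y⁻¹ * g * y = y⁻¹ * g * y⁻¹⁻¹ by group, centralizer_conj] at h3
    simp only [Subgroup.card_map_of_injective (f := (MulAut.conj y⁻¹).toMonoidHom) (MulAut.conj y⁻¹).injective,
      Tset_card hm hF hd hC] at h3
    exact h3

theorem indFun_torus_one (ψ : ↥C →* ℂˣ) :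
    (d : ℂ)⁻¹ * ∑ y, ((ψ.comp (cN C y)) 1 : ℂ) = (nOf m d : ℕ) := by
  have := Tset_cast_ne hm hF hd hC
  simp only [map_one, Units.val_one, Finset.sum_const, Finset.card_univ, nsmul_eq_mul, mul_one]
  rw [← Nat.card_eq_fintype_card, card_normalizer hm hF hd hC, Nat.cast_mul]
  field_simp

/-- the scalar product of two orbit sums -/
theorem sum_orbit_mul (ψ φ : ↥C →* ℂˣ) [DecidableEq (↥C →* ℂˣ)] :
    ∑ x : ↥C, ((d : ℂ)⁻¹ * ∑ y, ((ψ.comp (cN C y)) x : ℂ)) * conj ((d : ℂ)⁻¹ * ∑ z, ((φ.comp (cN C z)) x : ℂ)) =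
      (d : ℂ)⁻¹ * (Finset.univ.filter fun p : ↥(Subgroup.normalizer (C : Set (Cfsg.Sz F m))) ×
        ↥(Subgroup.normalizer (C : Set (Cfsg.Sz F m))) => ψ.comp (cN C p.1) = φ.comp (cN C p.2)).card := by
  have hd0 := Tset_cast_ne hm hF hd hC
  have hsum : ∀ a b : ↥C →* ℂˣ, ∑ x, (a x : ℂ) * conj (b x : ℂ) = if a = b then (d : ℂ) else 0 := by
    intro a b
    rw [Finset.sum_congr rfl (g := fun x => ((a * b⁻¹) x : ℂ)) fun x _ => by rw [conj_lin, ← Units.val_mul]; rfl]
    split_ifs with h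
    · subst h
      rw [Finset.sum_congr rfl (g := fun _ => (1 : ℂ)) fun x _ => by simp, Finset.sum_const, Finset.card_univ,
        nsmul_eq_mul, mul_one, ← Nat.card_eq_fintype_card, Tset_card hm hF hd hC]
    · exact sum_lin_eq_zero fun e => h (mul_inv_eq_one.1 e)
  simp only [map_mul, map_inv₀, map_natCast, map_sum]
  calc ∑ x : ↥C, ((d : ℂ)⁻¹ * ∑ y, ((ψ.comp (cN C y)) x : ℂ)) * ((d : ℂ)⁻¹ * ∑ z, conj ((φ.comp (cN C z)) x : ℂ))
      = (d : ℂ)⁻¹ * ((d : ℂ)⁻¹ * ∑ p : ↥(Subgroup.normalizer (C : Set (Cfsg.Sz F m))) ×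
          ↥(Subgroup.normalizer (C : Set (Cfsg.Sz F m))),
            ∑ x : ↥C, ((ψ.comp (cN C p.1)) x : ℂ) * conj ((φ.comp (cN C p.2)) x : ℂ)) := by
        rw [Finset.sum_comm, Finset.mul_sum, Finset.mul_sum]
        refine Finset.sum_congr rfl fun x _ => ?_
        rw [Fintype.sum_prod_type]
        simp only [Finset.sum_mul, Finset.mul_sum]
        rw [Finset.sum_comm]
        exact Finset.sum_congr rfl fun y _ => Finset.sum_congr rfl fun z _ => by ring
    _ = _ := by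
      simp only [hsum]
      rw [← Finset.sum_filter, Finset.sum_const, nsmul_eq_mul]
      field_simp

/-- the number of pairs carrying two characters to the same one -/
theorem card_pairs {ψ : ↥C →* ℂˣ} (hψ : ψ ≠ 1) (φ : ↥C →* ℂˣ) [DecidableEq (↥C →* ℂˣ)]
    [Decidable (∃ y, φ = ψ.comp (cN C y))] :
    (Finset.univ.filter fun p : ↥(Subgroup.normalizer (C : Set (Cfsg.Sz F m))) ×
        ↥(Subgroup.normalizer (C : Set (Cfsg.Sz F m))) => ψ.comp (cN C p.1) = φ.comp (cN C p.2)).card =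
      if ∃ y, φ = ψ.comp (cN C y) then nOf m d * d * d else 0 := by
  classical
  split_ifs with h
  · obtain ⟨y0, rfl⟩ := h
    simp only [cN_mul]
    rw [← card_normalizer hm hF hd hC, ← Tset_card hm hF hd hC, Nat.card_eq_fintype_card,
      Nat.card_eq_fintype_card (α := ↥C), ← Fintype.card_prod]
    symm
    refine Finset.card_bij (s := Finset.univ) (fun p _ => (p.1 * y0 * ⟨(p.2 : Cfsg.Sz F m), Subgroup.le_normalizer p.2.2⟩, p.1)) ?_ ?_ ?_
    · rintro ⟨z, c⟩ -
      rw [Finset.mem_filter]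
      refine ⟨Finset.mem_univ _, ?_⟩
      rw [← cN_mul, (stab_lin hm hF hd hC hψ).2 c.2]
    · rintro ⟨z, c⟩ - ⟨z', c'⟩ - e
      obtain ⟨e1, e2⟩ := Prod.ext_iff.1 e
      simp only at e1 e2
      subst e2
      have e3 := mul_left_cancel e1
      exact Prod.ext rfl (Subtype.ext (congrArg Subtype.val e3 :))
    · rintro ⟨y, z⟩ hp
      rw [Finset.mem_filter] at hp
      have e := congrArg (fun t : ↥C →* ℂˣ => t.comp (cN C (z * y0)⁻¹)) hp.2
      simp only [cN_mul, inv_mul_cancel, cN_one] at e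
      refine ⟨(z, ⟨_, (stab_lin hm hF hd hC hψ).1 e⟩), Finset.mem_univ _, Prod.ext (Subtype.ext ?_) rfl⟩
      show (z : Cfsg.Sz F m) * y0 * (((z * y0)⁻¹ * y : ↥(Subgroup.normalizer (C : Set (Cfsg.Sz F m)))) : Cfsg.Sz F m) = y
      simp [mul_assoc]
  · rw [Finset.card_eq_zero, Finset.filter_eq_empty_iff]
    rintro ⟨y, z⟩ -
    intro e
    apply h
    have e' := congrArg (fun t : ↥C →* ℂˣ => t.comp (cN C z⁻¹)) e
    simp only [cN_mul, inv_mul_cancel, cN_one] at e'
    exact ⟨_, e'.symm⟩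

theorem indFun_conj (ψ : ↥C →* ℂˣ) (y0 : ↥(Subgroup.normalizer (C : Set (Cfsg.Sz F m)))) :
    indFun C (fun c => ((ψ.comp (cN C y0)) c : ℂ)) = indFun C (fun c => (ψ c : ℂ)) := by
  classical
  funext g
  rw [indFun, indFun]
  congr 1
  refine Fintype.sum_equiv (Equiv.mulRight (y0 : Cfsg.Sz F m)) _ _ fun x => ?_
  simp only [Equiv.coe_mulRight]
  by_cases h : x⁻¹ * g * x ∈ C
  · have h' : (x * y0)⁻¹ * g * (x * y0) ∈ C := by
      have := (Subgroup.mem_normalizer_iff''.1 y0.2 _).1 h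
      simpa [mul_assoc] using this
    rw [extendByZero_mem C _ h, extendByZero_mem C _ h']
    show ((ψ _ : ℂˣ) : ℂ) = _
    congr 2
    exact Subtype.ext (by show (y0 : Cfsg.Sz F m)⁻¹ * (x⁻¹ * g * x) * y0 = _; group)
  · rw [extendByZero_not_mem C _ h, extendByZero_not_mem C _ fun h' => h ?_]
    have := (Subgroup.mem_normalizer_iff''.1 y0.2 (x⁻¹ * g * x)).2
      (by simpa [mul_assoc] using h')
    exact this

end induced

end CfsgLib.Lie.Suz
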