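import Cfsg.Agent.Lib.Lie.Suz.Char.Family

/-!
# The irreducible characters of the Suzuki groups
-/

set_option autoImplicit false
set_option linter.unusedSectionVars false

namespace CfsgLib.Lie.Suz

open Cfsg CfsgLib.Char
open scoped MatrixGroups ComplexConjugate

/-- the Steinberg row -/
noncomputable def rowSt (m : ℕ) : Row := ⟨((2 : ℂ) * (2 ^ m) ^ 2) ^ 2, 0, 0, 0, 1, -1, -1⟩
/-- the row of the first small character -/
noncomputable def rowW (m : ℕ) : Row :=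
  ⟨2 ^ m * (2 * (2 ^ m) ^ 2 - 1), -2 ^ m, 0, 2 ^ m * Complex.I, 0, 1, -1⟩
/-- the row of the second small character -/
noncomputable def rowW' (m : ℕ) : Row :=
  ⟨2 ^ m * (2 * (2 ^ m) ^ 2 - 1), -2 ^ m, 0, -(2 ^ m * Complex.I), 0, 1, -1⟩
/-- the row under the principal series -/
noncomputable def rowA (m : ℕ) : Row :=
  ⟨(((2 : ℂ) * (2 ^ m) ^ 2) ^ 2 + 1) * (1 - ((2 : ℂ) * (2 ^ m) ^ 2) ^ 2), 1, 1, 0, 0, 0, 0⟩
/-- the row under the first discrete series -/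
noncomputable def rowP (m : ℕ) : Row :=
  ⟨(2 * (2 ^ m) ^ 2 - 2 * 2 ^ m + 1) * (2 * (2 ^ m) ^ 2 - 1) * (((2 : ℂ) * (2 ^ m) ^ 2) ^ 2 + 1),
    2 * 2 ^ m - 1, -1, 0, 0, 0, 0⟩
/-- the row under the second discrete series -/
noncomputable def rowM (m : ℕ) : Row :=
  ⟨(2 * (2 ^ m) ^ 2 + 2 * 2 ^ m + 1) * (2 * (2 ^ m) ^ 2 - 1) * (((2 : ℂ) * (2 ^ m) ^ 2) ^ 2 + 1),
    -(2 * 2 ^ m) - 1, -1, 0, 0, 0, 0⟩

/-- the degree of the principal series -/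
noncomputable def degA (m : ℕ) : ℝ := ((2 : ℝ) * (2 ^ m) ^ 2) ^ 2 + 1
/-- the degree of the first discrete series -/
noncomputable def degP (m : ℕ) : ℝ := (2 * (2 ^ m) ^ 2 - 2 * 2 ^ m + 1) * (2 * (2 ^ m) ^ 2 - 1)
/-- the degree of the second discrete series -/
noncomputable def degM (m : ℕ) : ℝ := (2 * (2 ^ m) ^ 2 + 2 * 2 ^ m + 1) * (2 * (2 ^ m) ^ 2 - 1)

variable {F : Type*} [Field F] [Fintype F] {m : ℕ}
variable (hm : 1 ≤ m) (hF : Fintype.card F = 2 ^ (2 * m + 1))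

include hm hF

theorem cast_q : (Fintype.card F : ℂ) = 2 * (2 ^ m) ^ 2 := by
  rw [hF, Nat.cast_pow, Nat.cast_ofNat, pow_succ', mul_comm 2 m, pow_mul]

theorem cast_d : ((dA m : ℕ) : ℂ) = 2 * (2 ^ m) ^ 2 - 1 ∧ ((dP m : ℕ) : ℂ) = 2 * (2 ^ m) ^ 2 + 2 * 2 ^ m + 1 ∧
    ((dM m : ℕ) : ℂ) = 2 * (2 ^ m) ^ 2 - 2 * 2 ^ m + 1 := by
  have h1 : 2 ^ (m + 1) ≤ 2 ^ (2 * m + 1) := Nat.pow_le_pow_right (by norm_num) (by omega)
  have e : ((2 ^ (2 * m + 1) : ℕ) : ℂ) = 2 * (2 ^ m) ^ 2 := hF ▸ cast_q hm hF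
  refine ⟨?_, ?_, ?_⟩
  · rw [dA, Nat.cast_sub Nat.one_le_two_pow, e, Nat.cast_one]
  · rw [dP, Nat.cast_add, Nat.cast_add, e, Nat.cast_pow, Nat.cast_ofNat, Nat.cast_one, pow_succ' (2 : ℂ) m]
  · rw [dM, Nat.cast_add, Nat.cast_sub h1, e, Nat.cast_pow, Nat.cast_ofNat, Nat.cast_one, pow_succ' (2 : ℂ) m]

theorem group_div : ((2 * ((2 : ℂ) ^ m) ^ 2) ^ 2 * ((2 * ((2 : ℂ) ^ m) ^ 2) ^ 2 + 1) * (2 * ((2 : ℂ) ^ m) ^ 2 - 1) /
      (2 * (2 ^ m) ^ 2 - 1) = (2 * (2 ^ m) ^ 2) ^ 2 * ((2 * (2 ^ m) ^ 2) ^ 2 + 1)) ∧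
    ((2 * ((2 : ℂ) ^ m) ^ 2) ^ 2 * ((2 * ((2 : ℂ) ^ m) ^ 2) ^ 2 + 1) * (2 * ((2 : ℂ) ^ m) ^ 2 - 1) /
      (2 * (2 ^ m) ^ 2 + 2 * 2 ^ m + 1) =
        (2 * (2 ^ m) ^ 2) ^ 2 * (2 * (2 ^ m) ^ 2 - 2 * 2 ^ m + 1) * (2 * (2 ^ m) ^ 2 - 1)) ∧
    ((2 * ((2 : ℂ) ^ m) ^ 2) ^ 2 * ((2 * ((2 : ℂ) ^ m) ^ 2) ^ 2 + 1) * (2 * ((2 : ℂ) ^ m) ^ 2 - 1) /
      (2 * (2 ^ m) ^ 2 - 2 * 2 ^ m + 1) =
        (2 * (2 ^ m) ^ 2) ^ 2 * (2 * (2 ^ m) ^ 2 + 2 * 2 ^ m + 1) * (2 * (2 ^ m) ^ 2 - 1)) := by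
  obtain ⟨hA, hP, hM⟩ := cast_d hm hF
  obtain ⟨hA', hP', hM', -⟩ := dvd_tori hm hF
  have nA : (2 : ℂ) * (2 ^ m) ^ 2 - 1 ≠ 0 := hA ▸ Tset_cast_ne hm hF hA' (Tset_rep hm hF hA').choose_spec.1
  have nP : (2 : ℂ) * (2 ^ m) ^ 2 + 2 * 2 ^ m + 1 ≠ 0 := hP ▸ Tset_cast_ne hm hF hP'
    (Tset_rep hm hF hP').choose_spec.1
  have nM : (2 : ℂ) * (2 ^ m) ^ 2 - 2 * 2 ^ m + 1 ≠ 0 := hM ▸ Tset_cast_ne hm hF hM'
    (Tset_rep hm hF hM').choose_spec.1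
  refine ⟨?_, ?_, ?_⟩ <;> rw [div_eq_iff (by assumption)] <;> ring

theorem q_bounds : (4 : ℝ) ≤ 2 * 2 ^ m ∧ (8 : ℝ) ≤ 2 * (2 ^ m) ^ 2 ∧ (2 : ℝ) ≤ 2 ^ m := by
  have h : (2 : ℝ) ≤ 2 ^ m := le_self_pow₀ (by norm_num) (by omega)
  exact ⟨by linarith, by nlinarith, h⟩

theorem good_A : GoodRow F m (dA m) (rowA m) (1) (degA m) (1) := by
  obtain ⟨hA, hP, hM⟩ := cast_d hm hF
  obtain ⟨-, -, -, n1, n2, -⟩ := dvd_tori hm hF
  obtain ⟨gA, gP, gM⟩ := group_div hm hF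
  refine ⟨Or.inl rfl, ⟨rfl, rfl, rfl, rfl⟩, by simp [rowA], by simp [rowA], ?_, ?_⟩
  · rw [cast_q hm hF, hA, gA, rowA, degA]
    push_cast
    ring
  · rw [cast_q hm hF, mul_div_assoc, hA, gA, nOf, if_pos rfl, degA]
    push_cast
    ring

theorem good_P : GoodRow F m (dP m) (rowP m) (-1) (degP m) (2 * 2 ^ m - 1) := by
  obtain ⟨hA, hP, hM⟩ := cast_d hm hF
  obtain ⟨-, -, -, n1, n2, -⟩ := dvd_tori hm hF
  obtain ⟨gA, gP, gM⟩ := group_div hm hF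
  refine ⟨Or.inr rfl, ⟨rfl, rfl, rfl, rfl⟩, by simp [rowP], by simp [rowP], ?_, ?_⟩
  · rw [cast_q hm hF, hP, gP, rowP, degP]
    push_cast
    ring
  · rw [cast_q hm hF, mul_div_assoc, hP, gP, nOf, if_neg n1.symm, degP]
    push_cast
    ring

theorem good_M : GoodRow F m (dM m) (rowM m) (-1) (degM m) (-(2 * 2 ^ m) - 1) := by
  obtain ⟨hA, hP, hM⟩ := cast_d hm hF
  obtain ⟨-, -, -, n1, n2, -⟩ := dvd_tori hm hF
  obtain ⟨gA, gP, gM⟩ := group_div hm hF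
  refine ⟨Or.inr rfl, ⟨rfl, rfl, rfl, rfl⟩, by simp [rowM], by simp [rowM], ?_, ?_⟩
  · rw [cast_q hm hF, hM, gM, rowM, degM]
    push_cast
    ring
  · rw [cast_q hm hF, mul_div_assoc, hM, gM, nOf, if_neg n2.symm, degM]
    push_cast
    ring

theorem gen_rows : IsGeneralizedCharacter (Cfsg.Sz F m) (mkCF hF (rowSt m)) ∧
    IsGeneralizedCharacter (Cfsg.Sz F m) (mkCF hF (rowW m)) ∧
    IsGeneralizedCharacter (Cfsg.Sz F m) (mkCF hF (rowW' m)) ∧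
    IsGeneralizedCharacter (Cfsg.Sz F m) (mkCF hF (rowA m)) ∧
    IsGeneralizedCharacter (Cfsg.Sz F m) (mkCF hF (rowP m)) ∧
    IsGeneralizedCharacter (Cfsg.Sz F m) (mkCF hF (rowM m)) := by
  obtain ⟨hA, hP, hM⟩ := cast_d hm hF
  have hq := cast_q hm hF
  obtain ⟨r, hr⟩ : ∃ r : ℤ, (r : ℂ) = 2 ^ m := ⟨2 ^ m, by push_cast; rfl⟩
  refine ⟨?_, ?_, ?_, ?_, ?_, ?_⟩
  · refine mkCF_generalized hm hF (rowSt m) 0 0 0 1 (fun _ => 0) ((2 * r ^ 2) + 1) (2 * r ^ 2 - 2 * r + 1) (2 * r ^ 2 + 2 * r + 1) 1 (-1) (-1) ?_ ?_ ?_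
      (fun σ _ => rfl) (fun σ _ => ⟨0, 0, by ring, by simp⟩) ⟨?_, ?_⟩ ⟨?_, ?_⟩ ⟨?_, ?_⟩ <;>
    · simp only [rowSt, hA, hP, hM, hq, ← hr]
      push_cast
      ring
  · refine mkCF_generalized hm hF (rowW m) 0 1 0 0 (fun _ => 2 ^ m * Complex.I) r (r - 1) (r + 1) 0 1 (-1) ?_ ?_ ?_
      (fun σ _ => rfl) (fun σ hσ => ?_) ⟨?_, ?_⟩ ⟨?_, ?_⟩ ⟨?_, ?_⟩
    on_goal 4 =>
      rcases hσ with rfl | rfl
      exacts [⟨1, 0, by ring, by push_cast; ring⟩, ⟨0, 1, by ring, by push_cast; ring⟩]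
    all_goals
      simp only [rowW, hA, hP, hM, hq, ← hr]
      push_cast
      ring
  · refine mkCF_generalized hm hF (rowW' m) 0 1 0 0 (fun _ => -(2 ^ m * Complex.I)) r (r - 1) (r + 1) 0 1 (-1) ?_ ?_ ?_
      (fun σ _ => rfl) (fun σ hσ => ?_) ⟨?_, ?_⟩ ⟨?_, ?_⟩ ⟨?_, ?_⟩
    on_goal 4 =>
      rcases hσ with rfl | rfl
      exacts [⟨0, 1, by ring, by push_cast; ring⟩, ⟨1, 0, by ring, by push_cast; ring⟩]
    all_goals
      simp only [rowW', hA, hP, hM, hq, ← hr]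
      push_cast
      ring
  · refine mkCF_generalized hm hF (rowA m) 1 0 0 (-(2 * r ^ 2) ^ 2) (fun _ => 0) (-((2 * r ^ 2) ^ 2 + 1) * ((2 * r ^ 2) + 1))
      ((1 - (2 * r ^ 2) ^ 2) * (2 * r ^ 2 - 2 * r + 1)) ((1 - (2 * r ^ 2) ^ 2) * (2 * r ^ 2 + 2 * r + 1)) 0 0 0 ?_ ?_ ?_
      (fun σ _ => rfl) (fun σ _ => ⟨0, 0, by ring, by simp⟩) ⟨?_, ?_⟩ ⟨?_, ?_⟩ ⟨?_, ?_⟩ <;>
    · simp only [rowA, hA, hP, hM, hq, ← hr]
      push_cast
      ring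
  · refine mkCF_generalized hm hF (rowP m) (-1) (-1) (-1) ((2 * r ^ 2 - 2 * r + 1) * (2 * r ^ 2 - 1) + 1) (fun _ => 0) ((2 * r ^ 2 - 2 * r + 1) * ((2 * r ^ 2) ^ 2 + 1))
      ((2 * r ^ 2 - 2 * r + 1) * (2 * r ^ 2 - 1) * (2 * r ^ 2 - 2 * r + 1)) ((2 * r ^ 2 - 1) * ((2 * r ^ 2) ^ 2 + 1)) 0 0 0 ?_ ?_ ?_
      (fun σ _ => rfl) (fun σ _ => ⟨-1, -1, by ring, by simp⟩) ⟨?_, ?_⟩ ⟨?_, ?_⟩ ⟨?_, ?_⟩ <;>
    · simp only [rowP, hA, hP, hM, hq, ← hr]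
      push_cast
      ring
  · refine mkCF_generalized hm hF (rowM m) (-1) 1 1 ((2 * r ^ 2 + 2 * r + 1) * (2 * r ^ 2 - 1) + 1) (fun _ => 0) ((2 * r ^ 2 + 2 * r + 1) * ((2 * r ^ 2) ^ 2 + 1))
      ((2 * r ^ 2 - 1) * ((2 * r ^ 2) ^ 2 + 1)) ((2 * r ^ 2 + 2 * r + 1) * (2 * r ^ 2 - 1) * (2 * r ^ 2 + 2 * r + 1)) 0 0 0 ?_ ?_ ?_
      (fun σ _ => rfl) (fun σ _ => ⟨1, 1, by ring, by simp⟩) ⟨?_, ?_⟩ ⟨?_, ?_⟩ ⟨?_, ?_⟩ <;>
    · simp only [rowM, hA, hP, hM, hq, ← hr]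
      push_cast
      ring

variable [Fintype (Cfsg.Sz F m)]

theorem irr_mkCF {R : Row} (hg : IsGeneralizedCharacter (Cfsg.Sz F m) (mkCF hF R)) (hpos : 0 < R.c1.re)
    (hn : R.c1 * conj R.c1 + ((Fintype.card F : ℂ) ^ 2 + 1) * ((Fintype.card F : ℂ) - 1) * (R.c2 * conj R.c2) +
      ((Fintype.card F : ℂ) ^ 2 + 1) * ((Fintype.card F : ℂ) ^ 2 - Fintype.card F) / 2 *
        ((R.c4 + R.s4) * conj (R.c4 + R.s4) + (R.c4 - R.s4) * conj (R.c4 - R.s4)) +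
      (Nat.card (Cfsg.Sz F m) : ℂ) * (((dA m : ℕ) - 1) * (R.cA * conj R.cA) / (2 * (dA m : ℕ)) +
        ((dP m : ℕ) - 1) * (R.cP * conj R.cP) / (4 * (dP m : ℕ)) +
        ((dM m : ℕ) - 1) * (R.cM * conj R.cM) / (4 * (dM m : ℕ))) = (Nat.card (Cfsg.Sz F m) : ℂ)) :
    IsIrrCharacter (Cfsg.Sz F m) (mkCF hF R) := by
  classical
  haveI : Fintype (IrrCharacter (Cfsg.Sz F m)) := Fintype.ofFinite _
  refine isIrr_of_norm_one hg ?_ (by rw [mkCF_one]; exact hpos)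
  apply mul_left_cancel₀ (card_ne_zero' (G := Cfsg.Sz F m))
  rw [inner_mkCF hm hF, mul_one, hn]

theorem irr_rows : IsIrrCharacter (Cfsg.Sz F m) (mkCF hF (rowSt m)) ∧
    IsIrrCharacter (Cfsg.Sz F m) (mkCF hF (rowW m)) ∧ IsIrrCharacter (Cfsg.Sz F m) (mkCF hF (rowW' m)) := by
  obtain ⟨g1, g2, g3, -⟩ := gen_rows hm hF
  obtain ⟨hA, hP, hM⟩ := cast_d hm hF
  obtain ⟨b1, b2, b3⟩ := q_bounds hm hF
  obtain ⟨hA', hP', hM', -⟩ := dvd_tori hm hF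
  obtain ⟨gA, gP, gM⟩ := group_div hm hF
  have expand : ∀ G a b c x y z : ℂ, G * (a / (2 * x) + b / (4 * y) + c / (4 * z)) =
      a / 2 * (G / x) + b / 4 * (G / y) + c / 4 * (G / z) := fun G a b c x y z => by ring
  refine ⟨irr_mkCF hm hF g1 ?_ ?_, irr_mkCF hm hF g2 ?_ ?_, irr_mkCF hm hF g3 ?_ ?_⟩
  · have : (rowSt m).c1 = (((2 * (2 ^ m) ^ 2) ^ 2 : ℝ) : ℂ) := by simp [rowSt]
    rw [this, Complex.ofReal_re]
    positivity
  · simp only [rowSt, hA, hP, hM, cast_q hm hF, card_group_C hm hF, map_mul, map_pow, map_ofNat, map_zero, map_one,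
      map_neg, map_add, map_sub]
    rw [expand, gA, gP, gM]
    ring
  · have : (rowW m).c1 = ((2 ^ m * (2 * (2 ^ m) ^ 2 - 1) : ℝ) : ℂ) := by simp [rowW]
    rw [this, Complex.ofReal_re]
    nlinarith
  · have e : ((rowW m).c4 + (rowW m).s4) * conj ((rowW m).c4 + (rowW m).s4) +
        ((rowW m).c4 - (rowW m).s4) * conj ((rowW m).c4 - (rowW m).s4) = 2 * (2 ^ m) ^ 2 := by
      simp only [rowW, map_mul, map_pow, map_ofNat, map_zero, map_neg, map_add, map_sub, Complex.conj_I]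
      linear_combination (-2 * ((2 : ℂ) ^ m) ^ 2) * Complex.I_sq
    rw [e]
    simp only [rowW, hA, hP, hM, cast_q hm hF, card_group_C hm hF, map_mul, map_pow, map_ofNat, map_zero, map_one,
      map_neg, map_add, map_sub, Complex.conj_I]
    rw [expand, gA, gP, gM]
    ring
  · have : (rowW' m).c1 = ((2 ^ m * (2 * (2 ^ m) ^ 2 - 1) : ℝ) : ℂ) := by simp [rowW']
    rw [this, Complex.ofReal_re]
    nlinarith
  · have e : ((rowW' m).c4 + (rowW' m).s4) * conj ((rowW' m).c4 + (rowW' m).s4) +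
        ((rowW' m).c4 - (rowW' m).s4) * conj ((rowW' m).c4 - (rowW' m).s4) = 2 * (2 ^ m) ^ 2 := by
      simp only [rowW', map_mul, map_pow, map_ofNat, map_zero, map_neg, map_add, map_sub, Complex.conj_I]
      linear_combination (-2 * ((2 : ℂ) ^ m) ^ 2) * Complex.I_sq
    rw [e]
    simp only [rowW', hA, hP, hM, cast_q hm hF, card_group_C hm hF, map_mul, map_pow, map_ofNat, map_zero, map_one,
      map_neg, map_add, map_sub, Complex.conj_I]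
    rw [expand, gA, gP, gM]
    ring

/-- the degrees are separated -/
theorem deg_order : (1 : ℝ) < 2 ^ m * (2 * (2 ^ m) ^ 2 - 1) ∧ 2 ^ m * (2 * (2 ^ m) ^ 2 - 1) < degP m ∧
    degP m < ((2 : ℝ) * (2 ^ m) ^ 2) ^ 2 ∧ ((2 : ℝ) * (2 ^ m) ^ 2) ^ 2 < degA m ∧ degA m < degM m := by
  obtain ⟨-, -, hr⟩ := q_bounds hm hF
  unfold degA degP degM
  generalize (2 : ℝ) ^ m = r at hr ⊢
  have h1 : 0 < 2 * r ^ 2 - 1 := by nlinarith
  refine ⟨by nlinarith, mul_lt_mul_of_pos_right (by nlinarith) h1, by nlinarith, lt_add_one _, by nlinarith⟩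

/-- the sum of a function over all irreducible characters -/
theorem sum_table {CA CP CM' : Subgroup (Cfsg.Sz F m)} (hA : CA ∈ Tset F m (dA m)) (hP : CP ∈ Tset F m (dP m))
    (hM : CM' ∈ Tset F m (dM m)) [Fintype (↥CA →* ℂˣ)] [Fintype (↥CP →* ℂˣ)] [Fintype (↥CM' →* ℂˣ)]
    [DecidableEq (↥CA →* ℂˣ)] [DecidableEq (↥CP →* ℂˣ)] [DecidableEq (↥CM' →* ℂˣ)]
    (f : (Cfsg.Sz F m → ℂ) → ℂ) :
    ∑ᶠ χ : IrrCharacter (Cfsg.Sz F m), f (χ : Cfsg.Sz F m → ℂ) =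
      f (fun _ => 1) + f (mkCF hF (rowSt m)) + f (mkCF hF (rowW m)) + f (mkCF hF (rowW' m)) +
      (∑ ψ ∈ Finset.univ.erase (1 : ↥CA →* ℂˣ), f (exX hF (rowA m) 1 ψ)) / 2 +
      (∑ ψ ∈ Finset.univ.erase (1 : ↥CP →* ℂˣ), f (exX hF (rowP m) (-1) ψ)) / 4 +
      (∑ ψ ∈ Finset.univ.erase (1 : ↥CM' →* ℂˣ), f (exX hF (rowM m) (-1) ψ)) / 4 := by
  classical
  obtain ⟨hA', hP', hM', n1, n2, -⟩ := dvd_tori hm hF
  obtain ⟨-, -, -, gA, gP, gM⟩ := gen_rows hm hF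
  obtain ⟨o1, o2, o3, o4, o5⟩ := deg_order hm hF
  obtain ⟨irrSt, irrW, irrW'⟩ := irr_rows hm hF
  obtain ⟨SA, sA1, sA2, sA3⟩ := exists_family hm hF hA' hA (good_A hm hF) gA (by linarith)
  obtain ⟨SP, sP1, sP2, sP3⟩ := exists_family hm hF hP' hP (good_P hm hF) gP (by linarith)
  obtain ⟨SM, sM1, sM2, sM3⟩ := exists_family hm hF hM' hM (good_M hm hF) gM (by linarith)
  have hA2 : ∀ t, ∀ a b : ℂ, ((nOf m t : ℕ) : ℂ) * a = b → t = dA m → a = b / 2 := by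
    intro t a b h ht
    subst ht
    rw [nOf, if_pos rfl] at h
    rw [← h]; push_cast; ring
  have hA4 : ∀ t, ∀ a b : ℂ, ((nOf m t : ℕ) : ℂ) * a = b → dA m ≠ t → a = b / 4 := by
    intro t a b h ht
    rw [nOf, if_neg ht.symm] at h
    rw [← h]; push_cast; ring
  rw [← hA2 _ _ _ (sA3 f) rfl, ← hA4 _ _ _ (sP3 f) n1, ← hA4 _ _ _ (sM3 f) n2]
  -- the value at the identity as a real number
  have hone : ∀ R : Row, ∀ x : ℝ, R.c1 = (x : ℂ) → (mkCF hF R (1 : Cfsg.Sz F m)).re = x := fun R x h => by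
    rw [mkCF_one, h, Complex.ofReal_re]
  have eSt : (mkCF hF (rowSt m) (1 : Cfsg.Sz F m)).re = (2 * (2 ^ m) ^ 2) ^ 2 := hone _ _ (by simp [rowSt])
  have eW : (mkCF hF (rowW m) (1 : Cfsg.Sz F m)).re = 2 ^ m * (2 * (2 ^ m) ^ 2 - 1) := hone _ _ (by simp [rowW])
  have eW' : (mkCF hF (rowW' m) (1 : Cfsg.Sz F m)).re = 2 ^ m * (2 * (2 ^ m) ^ 2 - 1) := hone _ _ (by simp [rowW'])
  have eS : ∀ (S : Finset (Cfsg.Sz F m → ℂ)) (deg : ℝ), (∀ X ∈ S, IsIrrCharacter _ X ∧ X 1 = (deg : ℂ)) →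
      ∀ X : Cfsg.Sz F m → ℂ, (X 1).re ≠ deg → X ∉ S := fun S deg h X hX hmem => hX (by
        rw [(h X hmem).2, Complex.ofReal_re])
  have hWW : mkCF hF (rowW m) ≠ (mkCF hF (rowW' m) : Cfsg.Sz F m → ℂ) := by
    intro e
    have := congrFun e (TS hF 1 0)
    rw [(mkCF_rho hm hF _).1, (mkCF_rho hm hF _).1] at this
    simp only [rowW, rowW', zero_add] at this
    have h2 : (2 : ℂ) ^ m * Complex.I = 0 := by linear_combination this / 2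
    simp at h2
  set L : Finset (Cfsg.Sz F m → ℂ) := ({fun _ => 1, mkCF hF (rowSt m), mkCF hF (rowW m), mkCF hF (rowW' m)} :
    Finset (Cfsg.Sz F m → ℂ)) ∪ SA ∪ SP ∪ SM with hL
  have hLirr : ∀ X ∈ L, IsIrrCharacter _ X := by
    intro X hX
    simp only [hL, Finset.mem_union, Finset.mem_insert, Finset.mem_singleton] at hX
    rcases hX with (((rfl | rfl | rfl | rfl) | h) | h) | h
    exacts [isIrrCharacter_one, irrSt, irrW, irrW', (sA1 X h).1, (sP1 X h).1, (sM1 X h).1]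
  have hsplit : ∀ g : (Cfsg.Sz F m → ℂ) → ℂ, ∑ X ∈ L, g X = g (fun _ => 1) + g (mkCF hF (rowSt m)) +
      g (mkCF hF (rowW m)) + g (mkCF hF (rowW' m)) + ∑ X ∈ SA, g X + ∑ X ∈ SP, g X + ∑ X ∈ SM, g X := by
    intro g
    rw [hL, Finset.sum_union, Finset.sum_union, Finset.sum_union, Finset.sum_insert, Finset.sum_insert,
      Finset.sum_pair hWW]
    · ring
    · simp only [Finset.mem_insert, Finset.mem_singleton, not_or]
      exact ⟨fun e => by rw [e, eW] at eSt; linarith, fun e => by rw [e, eW'] at eSt; linarith⟩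
    · simp only [Finset.mem_insert, Finset.mem_singleton, not_or]
      refine ⟨fun e => ?_, fun e => ?_, fun e => ?_⟩
      · rw [← e, Complex.one_re] at eSt; linarith
      · rw [← e, Complex.one_re] at eW; linarith
      · rw [← e, Complex.one_re] at eW'; linarith
    · rw [Finset.disjoint_left]
      intro X hX
      simp only [Finset.mem_insert, Finset.mem_singleton] at hX
      refine eS SA _ sA1 X ?_
      rcases hX with rfl | rfl | rfl | rfl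
      exacts [by rw [Complex.one_re]; linarith, by rw [eSt]; linarith, by rw [eW]; linarith, by rw [eW']; linarith]
    · rw [Finset.disjoint_left]
      intro X hX
      simp only [Finset.mem_union, Finset.mem_insert, Finset.mem_singleton] at hX
      refine eS SP _ sP1 X ?_
      rcases hX with (rfl | rfl | rfl | rfl) | h
      exacts [by rw [Complex.one_re]; linarith, by rw [eSt]; linarith, by rw [eW]; linarith, by rw [eW']; linarith,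
        by rw [(sA1 X h).2, Complex.ofReal_re]; linarith]
    · rw [Finset.disjoint_left]
      intro X hX
      simp only [Finset.mem_union, Finset.mem_insert, Finset.mem_singleton] at hX
      refine eS SM _ sM1 X ?_
      rcases hX with ((rfl | rfl | rfl | rfl) | h) | h
      exacts [by rw [Complex.one_re]; linarith, by rw [eSt]; linarith, by rw [eW]; linarith, by rw [eW']; linarith,
        by rw [(sA1 X h).2, Complex.ofReal_re]; linarith, by rw [(sP1 X h).2, Complex.ofReal_re]; linarith]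
  haveI : Fintype (IrrCharacter (Cfsg.Sz F m)) := Fintype.ofFinite _
  set L' : Finset (IrrCharacter (Cfsg.Sz F m)) := Finset.univ.filter fun χ => (χ : Cfsg.Sz F m → ℂ) ∈ L with hL'
  have hmap : ∀ g : (Cfsg.Sz F m → ℂ) → ℂ, ∑ χ ∈ L', g (χ : Cfsg.Sz F m → ℂ) = ∑ X ∈ L, g X := by
    intro g
    refine Finset.sum_bij' (fun χ _ => (χ : Cfsg.Sz F m → ℂ)) (fun X hX => ⟨X, hLirr X hX⟩) ?_ ?_ ?_ ?_ ?_
    · intro χ hχ; exact (Finset.mem_filter.1 hχ).2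
    · intro X hX; exact Finset.mem_filter.2 ⟨Finset.mem_univ _, hX⟩
    · intros; rfl
    · intros; rfl
    · intros; rfl
  have hall : ∀ χ : IrrCharacter (Cfsg.Sz F m), χ ∈ L' := by
    by_contra hne
    push Not at hne
    obtain ⟨χ0, hχ0⟩ := hne
    have hq := cast_q hm hF
    obtain ⟨cA, cP, cM⟩ := cast_d hm hF
    have htot : ∑ χ ∈ L', (χ : Cfsg.Sz F m → ℂ) 1 ^ 2 = (Nat.card (Cfsg.Sz F m) : ℂ) := by
      rw [hmap fun X => X 1 ^ 2, hsplit]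
      simp only [mkCF_one, one_pow, Finset.sum_congr rfl (g := fun _ => ((degA m : ℝ) : ℂ) ^ 2)
          (fun X hX => by rw [(sA1 X hX).2] : ∀ X ∈ SA, X 1 ^ 2 = _),
        Finset.sum_congr rfl (g := fun _ => ((degP m : ℝ) : ℂ) ^ 2)
          (fun X hX => by rw [(sP1 X hX).2] : ∀ X ∈ SP, X 1 ^ 2 = _),
        Finset.sum_congr rfl (g := fun _ => ((degM m : ℝ) : ℂ) ^ 2)
          (fun X hX => by rw [(sM1 X hX).2] : ∀ X ∈ SM, X 1 ^ 2 = _), Finset.sum_const, nsmul_eq_mul]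
      rw [hA2 _ _ _ sA2 rfl, hA4 _ _ _ sP2 n1, hA4 _ _ _ sM2 n2, card_group_C hm hF, hq, cA, cP, cM]
      simp only [rowSt, rowW, rowW', degA, degP, degM]
      push_cast
      ring
    have h2 := sum_degree_sq (G := Cfsg.Sz F m)
    rw [← Finset.sum_add_sum_compl L', htot, add_eq_left] at h2
    have h3 : ∀ χ : IrrCharacter (Cfsg.Sz F m), ∃ k : ℕ, 0 < k ∧ (χ : Cfsg.Sz F m → ℂ) 1 = k :=
      fun χ => isIrrCharacter_degree χ.2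
    choose k hk0 hk using h3
    simp only [hk, ← Nat.cast_pow, ← Nat.cast_sum, Nat.cast_eq_zero, Finset.sum_eq_zero_iff] at h2
    have := h2 χ0 (Finset.mem_compl.2 hχ0)
    have := hk0 χ0
    exact pow_ne_zero 2 (by omega) ‹k χ0 ^ 2 = 0›
  rw [finsum_eq_sum_of_fintype, ← Finset.eq_univ_iff_forall.2 hall, hmap, hsplit]

/-- every irreducible character is in the table -/
theorem irr_cases {CA CP CM' : Subgroup (Cfsg.Sz F m)} (hA : CA ∈ Tset F m (dA m)) (hP : CP ∈ Tset F m (dP m))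
    (hM : CM' ∈ Tset F m (dM m)) {X : Cfsg.Sz F m → ℂ} (hX : IsIrrCharacter _ X) :
    X = (fun _ => 1) ∨ X = mkCF hF (rowSt m) ∨ X = mkCF hF (rowW m) ∨ X = mkCF hF (rowW' m) ∨
      (∃ ψ : ↥CA →* ℂˣ, ψ ≠ 1 ∧ X = exX hF (rowA m) 1 ψ) ∨
      (∃ ψ : ↥CP →* ℂˣ, ψ ≠ 1 ∧ X = exX hF (rowP m) (-1) ψ) ∨
      (∃ ψ : ↥CM' →* ℂˣ, ψ ≠ 1 ∧ X = exX hF (rowM m) (-1) ψ) := by
  classical
  haveI : Finite (↥CA →* ℂˣ) := Nat.finite_of_card_ne_zero (by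
    rw [card_lin hm hF (dvd_tori hm hF).1 hA]; have := (tori_coprime hF hm (dvd_tori hm hF).1 (dvd_tori hm hF).1).2.1
    omega)
  haveI : Finite (↥CP →* ℂˣ) := Nat.finite_of_card_ne_zero (by
    rw [card_lin hm hF (dvd_tori hm hF).2.1 hP]
    have := (tori_coprime hF hm (dvd_tori hm hF).2.1 (dvd_tori hm hF).2.1).2.1
    omega)
  haveI : Finite (↥CM' →* ℂˣ) := Nat.finite_of_card_ne_zero (by
    rw [card_lin hm hF (dvd_tori hm hF).2.2.1 hM]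
    have := (tori_coprime hF hm (dvd_tori hm hF).2.2.1 (dvd_tori hm hF).2.2.1).2.1
    omega)
  haveI : Fintype (↥CA →* ℂˣ) := Fintype.ofFinite _
  haveI : Fintype (↥CP →* ℂˣ) := Fintype.ofFinite _
  haveI : Fintype (↥CM' →* ℂˣ) := Fintype.ofFinite _
  haveI : Fintype (IrrCharacter (Cfsg.Sz F m)) := Fintype.ofFinite _
  by_contra hne
  simp only [not_or, not_exists, not_and] at hne
  obtain ⟨a1, a2, a3, a4, a5, a6, a7⟩ := hne
  have h := sum_table hm hF hA hP hM fun Y => if Y = X then (1 : ℂ) else 0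
  rw [finsum_eq_sum_of_fintype, Finset.sum_eq_single (⟨X, hX⟩ : IrrCharacter (Cfsg.Sz F m))
    (fun χ _ hχ => if_neg fun e => hχ (Subtype.ext e)) (fun hh => absurd (Finset.mem_univ _) hh),
    if_pos rfl, if_neg (Ne.symm a1), if_neg (Ne.symm a2), if_neg (Ne.symm a3), if_neg (Ne.symm a4),
    Finset.sum_eq_zero fun ψ hψ => if_neg (Ne.symm (a5 ψ (Finset.mem_erase.1 hψ).1)),
    Finset.sum_eq_zero fun ψ hψ => if_neg (Ne.symm (a6 ψ (Finset.mem_erase.1 hψ).1)),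
    Finset.sum_eq_zero fun ψ hψ => if_neg (Ne.symm (a7 ψ (Finset.mem_erase.1 hψ).1))] at h
  norm_num at h

end CfsgLib.Lie.Suz
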